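/-
Orbits of the special linear group on alternating matrices.
-/
import Cfsg.Agent.Lib.Classical.SL2Sylow
import Cfsg.Agent.Lib.LinDeg.Core
import Cfsg.Agent.Lib.Perm.Asch.Proper

set_option autoImplicit false

namespace CfsgLib.Classical.WeilOmega

open Matrix

variable {F : Type*} [Field F] {m : ℕ}

/-- Alternating matrices. -/
def IsAlt (B : Matrix (Fin m) (Fin m) F) : Prop := (∀ i j, B j i = -B i j) ∧ ∀ i, B i i = 0

/-- The alternating matrix of two vectors. -/
def wedge (u v : Fin m → F) : Matrix (Fin m) (Fin m) F := vecMulVec u v - vecMulVec v u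

theorem wedge_apply (u v : Fin m → F) (i j : Fin m) : wedge u v i j = u i * v j - v i * u j := rfl

theorem congr_wedge (g : Matrix (Fin m) (Fin m) F) (u v : Fin m → F) :
    gᵀ * wedge u v * g = wedge (gᵀ *ᵥ u) (gᵀ *ᵥ v) := by
  rw [wedge, wedge, Matrix.mul_sub, Matrix.sub_mul, mul_vecMulVec, mul_vecMulVec, vecMulVec_mul, vecMulVec_mul]
  simp only [mulVec_transpose]

theorem wedge_smul_add (u v : Fin m → F) (p q r s : F) :
    wedge (p • u + q • v) (r • u + s • v) = (p * s - q * r) • wedge u v := by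
  ext i j
  simp [wedge_apply]
  ring

theorem linearIndependent_pair_of_wedge {u v : Fin m → F} (h : wedge u v ≠ 0) : LinearIndependent F ![u, v] := by
  rw [LinearIndependent.pair_iff]
  intro s t hst
  by_contra hne
  apply h
  ext i j
  have hi : s * u i + t * v i = 0 := congrFun hst i
  have hj : s * u j + t * v j = 0 := congrFun hst j
  rw [wedge_apply, Matrix.zero_apply]
  rcases not_and_or.1 hne with hs | ht
  · refine (mul_eq_zero.1 (show s * (u i * v j - v i * u j) = 0 from ?_)).resolve_left hs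
    linear_combination v j * hi - v i * hj
  · refine (mul_eq_zero.1 (show t * (u i * v j - v i * u j) = 0 from ?_)).resolve_left ht
    linear_combination u i * hj - u j * hi

theorem sl_mul_val (g h : SpecialLinearGroup (Fin m) F) : (g * h).1 = g.1 * h.1 := rfl

theorem sl_one_val : (1 : SpecialLinearGroup (Fin m) F).1 = 1 := rfl

/-- An elementary element of the special linear group. -/
def trow (i : Fin m) (c : Fin m → F) (hc : c i = 0) : SpecialLinearGroup (Fin m) F :=
  ⟨1 + vecMulVec (Pi.single i 1) c, by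
    rw [show vecMulVec (Pi.single i (1 : F) : Fin m → F) c =
        replicateCol Unit (Pi.single i (1 : F) : Fin m → F) * replicateRow Unit c from vecMulVec_eq Unit _ _,
      det_one_add_replicateCol_mul_replicateRow]
    simp [hc]⟩

theorem trow_mul_apply (i : Fin m) (c : Fin m → F) (hc : c i = 0) (B : Matrix (Fin m) (Fin m) F) (k l : Fin m) :
    ((trow i c hc).1ᵀ * B * (trow i c hc).1) k l = B k l + c k * B i l + B k i * c l + c k * B i i * c l := by
  show (((1 : Matrix (Fin m) (Fin m) F) + vecMulVec (Pi.single i (1 : F)) c)ᵀ * B *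
    ((1 : Matrix (Fin m) (Fin m) F) + vecMulVec (Pi.single i (1 : F)) c)) k l = _
  rw [transpose_add, transpose_one, transpose_vecMulVec, Matrix.add_mul, Matrix.one_mul, vecMulVec_mul,
    Matrix.mul_add, Matrix.mul_one, Matrix.add_mul, mul_vecMulVec, vecMulVec_mul_vecMulVec]
  simp [vecMulVec_apply, mulVec, vecMul, dotProduct, Pi.single_apply]
  ring

section Pairs

variable [Fintype F]

/-- An independent pair is moved to the first two basis vectors. -/
theorem exists_sl_pair (hm : 3 ≤ m) {i₀ i₁ : Fin m} (h01 : i₀ ≠ i₁) {u v : Fin m → F}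
    (h : LinearIndependent F ![u, v]) :
    ∃ g : SpecialLinearGroup (Fin m) F, g.1 *ᵥ Pi.single i₀ 1 = u ∧ g.1 *ᵥ Pi.single i₁ 1 = v := by
  classical
  have hu : u ≠ 0 := h.ne_zero 0
  have he : (Pi.single i₀ 1 : Fin m → F) ≠ 0 := by simp
  obtain ⟨g₁, hg₁d, hg₁⟩ := CfsgLib.LinDeg.exists_det_one_mulVec (by omega) he hu
  let g : SpecialLinearGroup (Fin m) F := ⟨g₁, hg₁d⟩
  -- pull back `v`
  set v' : Fin m → F := (g⁻¹ : SpecialLinearGroup (Fin m) F).1 *ᵥ v with hv'
  set e₀ : Fin m → F := Pi.single i₀ 1 with he₀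
  have hgg : ∀ x, g.1 *ᵥ ((g⁻¹ : SpecialLinearGroup (Fin m) F).1 *ᵥ x) = x := fun x => by
    rw [mulVec_mulVec, ← sl_mul_val, mul_inv_cancel, sl_one_val, one_mulVec]
  have hnot : v' ∉ Submodule.span F {e₀} := by
    rw [Submodule.mem_span_singleton]
    rintro ⟨c, hc⟩
    have e := congrArg (g.1 *ᵥ ·) hc
    simp only [mulVec_smul] at e
    rw [show g.1 *ᵥ e₀ = u from hg₁, hgg] at e
    exact one_ne_zero (neg_eq_zero.1 (LinearIndependent.pair_iff.1 h c (-1) (by rw [e]; module)).2)
  set e₁ : Fin m → F := Pi.single i₁ 1 with he₁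
  have he₁n : e₁ ∉ Submodule.span F {e₀} := by
    rw [Submodule.mem_span_singleton]
    rintro ⟨c, hc⟩
    have := congrFun hc i₁
    simp [he₀, he₁, h01.symm] at this
  -- one transvection step fixing `e₀`
  have step : ∀ x y : Fin m → F, x ∉ Submodule.span F {e₀} → y - x ∉ Submodule.span F {e₀, x} →
      ∃ t : SpecialLinearGroup (Fin m) F, t.1 *ᵥ e₀ = e₀ ∧ t.1 *ᵥ x = y := by
    intro x y hx hyx
    obtain ⟨φ, hφ1, hφW⟩ := CfsgLib.Perm.Asch.exists_dual (Submodule.span F {e₀, y - x}) (x := x) (by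
      intro hxm
      rw [Submodule.mem_span_pair] at hxm
      obtain ⟨s, t, hst⟩ := hxm
      by_cases ht : t = 0
      · exact hx (Submodule.mem_span_singleton.2 ⟨s, by simpa [ht] using hst⟩)
      · refine hyx (Submodule.mem_span_pair.2 ⟨-(t⁻¹ * s), t⁻¹, ?_⟩)
        have e : x - s • e₀ = t • (y - x) := sub_eq_iff_eq_add'.2 hst.symm
        calc (-(t⁻¹ * s)) • e₀ + t⁻¹ • x = t⁻¹ • (x - s • e₀) := by module
          _ = y - x := by rw [e, smul_smul, inv_mul_cancel₀ ht, one_smul])
    have h0 : φ ⬝ᵥ (y - x) = 0 := hφW _ (Submodule.subset_span (by simp))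
    refine ⟨⟨1 + vecMulVec (y - x) φ, by
      rw [show vecMulVec (y - x) φ = replicateCol Unit (y - x) * replicateRow Unit φ from vecMulVec_eq Unit _ _,
        det_one_add_replicateCol_mul_replicateRow, h0, add_zero]⟩, ?_, ?_⟩
    · show ((1 : Matrix (Fin m) (Fin m) F) + vecMulVec (y - x) φ) *ᵥ e₀ = e₀
      rw [add_mulVec, one_mulVec, vecMulVec_mulVec, hφW e₀ (Submodule.subset_span (by simp))]
      simp
    · show ((1 : Matrix (Fin m) (Fin m) F) + vecMulVec (y - x) φ) *ᵥ x = y
      rw [add_mulVec, one_mulVec, vecMulVec_mulVec, hφ1]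
      simp
  obtain ⟨t, ht0, ht1⟩ : ∃ t : SpecialLinearGroup (Fin m) F, t.1 *ᵥ e₀ = e₀ ∧ t.1 *ᵥ e₁ = v' := by
    by_cases hd : v' - e₁ ∈ Submodule.span F {e₀, e₁}
    · -- through a vector outside the plane
      obtain ⟨z, hz⟩ : ∃ z : Fin m → F, z ∉ Submodule.span F {e₀, e₁} := by
        by_contra hc
        push Not at hc
        have h1 : Submodule.span F {e₀, e₁} = ⊤ := eq_top_iff.2 fun z _ => hc z
        have h2 := congrArg (fun S : Submodule F (Fin m → F) => Module.finrank F S) h1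
        simp only [finrank_top, Module.finrank_fintype_fun_eq_card, Fintype.card_fin] at h2
        have h3 := finrank_span_finset_le_card (R := F) ({e₀, e₁} : Finset (Fin m → F))
        have h4 : (({e₀, e₁} : Finset (Fin m → F)) : Set (Fin m → F)) = {e₀, e₁} := by simp
        rw [Set.finrank, h4, h2] at h3
        have := h3.trans Finset.card_le_two
        omega
      have hv'm : v' ∈ Submodule.span F {e₀, e₁} := by
        have := Submodule.add_mem _ hd (Submodule.subset_span (show e₁ ∈ ({e₀, e₁} : Set (Fin m → F)) by simp))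
        rwa [sub_add_cancel] at this
      have hz0 : z ∉ Submodule.span F {e₀} := fun h' => hz (Submodule.span_mono (by simp) h')
      obtain ⟨t₁, ht₁0, ht₁⟩ := step e₁ z he₁n (fun h' => hz (by
        have := Submodule.add_mem _ h' (Submodule.subset_span (show e₁ ∈ ({e₀, e₁} : Set (Fin m → F)) by simp))
        rwa [sub_add_cancel] at this))
      obtain ⟨t₂, ht₂0, ht₂⟩ := step z v' hz0 (fun h' => by
        rw [Submodule.mem_span_pair] at h'
        obtain ⟨s, r, hsr⟩ := h'
        by_cases hr : r = -1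
        · apply hnot
          rw [Submodule.mem_span_singleton]
          refine ⟨s, ?_⟩
          rw [hr] at hsr
          calc s • e₀ = (s • e₀ + (-1 : F) • z) + z := by module
            _ = v' := by rw [hsr]; abel
        · apply hz
          have e : (r + 1) • z = v' - s • e₀ := by
            calc (r + 1) • z = (s • e₀ + r • z) + z - s • e₀ := by module
              _ = v' - s • e₀ := by rw [hsr]; abel
          have hm' : (r + 1) • z ∈ Submodule.span F {e₀, e₁} := e ▸ Submodule.sub_mem _ hv'm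
            (Submodule.smul_mem _ _ (Submodule.subset_span (by simp)))
          exact (Submodule.smul_mem_iff _ (fun h => hr (eq_neg_of_add_eq_zero_left h))).1 hm')
      exact ⟨t₂ * t₁, by rw [sl_mul_val, ← mulVec_mulVec, ht₁0, ht₂0],
        by rw [sl_mul_val, ← mulVec_mulVec, ht₁, ht₂]⟩
    · exact step e₁ v' he₁n hd
  refine ⟨g * t, ?_, ?_⟩
  · rw [sl_mul_val, ← mulVec_mulVec, ht0]
    exact hg₁
  · rw [sl_mul_val, ← mulVec_mulVec, ht1, hv', hgg]

open _root_.Classical in
theorem fibre_le (B : Matrix (Fin m) (Fin m) F) :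
    (Finset.univ.filter fun s : Fin 2 → Fin m → F => LinearIndependent F s ∧ wedge (s 0) (s 1) = B).card ≤
      Nat.card (SpecialLinearGroup (Fin 2) F) := by
  rcases (Finset.univ.filter fun s : Fin 2 → Fin m → F => LinearIndependent F s ∧ wedge (s 0) (s 1) = B).eq_empty_or_nonempty with he | ⟨s, hs⟩
  · simp [he]
  simp only [Finset.mem_filter, Finset.mem_univ, true_and] at hs
  rw [Nat.card_eq_fintype_card, ← Finset.card_univ]
  refine Finset.card_le_card_of_surjOn (fun g : SpecialLinearGroup (Fin 2) F =>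
    (![g.1 0 0 • s 0 + g.1 0 1 • s 1, g.1 1 0 • s 0 + g.1 1 1 • s 1] : Fin 2 → Fin m → F)) ?_
  intro t ht
  simp only [Finset.coe_filter, Set.mem_setOf_eq, Finset.mem_univ, true_and] at ht
  have hs' : LinearIndependent F ![s 0, s 1] := by
    convert hs.1 using 1; funext i; fin_cases i <;> rfl
  -- the span is the image of the alternating matrix
  have hB0 : B ≠ 0 := by
    intro hB
    obtain ⟨φ, hφ1, hφW⟩ := CfsgLib.Perm.Asch.exists_dual (Submodule.span F {s 0}) (x := s 1) (by
      rw [Submodule.mem_span_singleton]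
      rintro ⟨c, hc⟩
      exact one_ne_zero (neg_eq_zero.1 (LinearIndependent.pair_iff.1 hs' c (-1) (by rw [hc]; module)).2))
    apply hs'.ne_zero 0
    funext i
    have h1 := congrArg (fun X : Matrix (Fin m) (Fin m) F => (X *ᵥ φ) i) (hs.2.trans hB)
    simp only [wedge, sub_mulVec, vecMulVec_mulVec, zero_mulVec] at h1
    rw [dotProduct_comm (s 0), hφW _ (Submodule.mem_span_singleton_self _), dotProduct_comm, hφ1] at h1
    simpa using h1
  have hin : ∀ x, (∃ φ, x = B *ᵥ φ) → ∃ c d : F, x = c • s 0 + d • s 1 := by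
    rintro x ⟨φ, rfl⟩
    refine ⟨s 1 ⬝ᵥ φ, -(s 0 ⬝ᵥ φ), ?_⟩
    rw [← hs.2, wedge, sub_mulVec, vecMulVec_mulVec, vecMulVec_mulVec]
    simp only [op_smul_eq_smul]
    module
  have ht' : LinearIndependent F ![t 0, t 1] := by
    convert ht.1 using 1; funext i; fin_cases i <;> rfl
  have himg : ∀ (x y : Fin m → F), LinearIndependent F ![x, y] → wedge x y = B ∨ wedge x y = -B →
      ∃ φ, x = B *ᵥ φ := by
    intro x y hxy he
    obtain ⟨φ, hφ1, hφW⟩ := CfsgLib.Perm.Asch.exists_dual (Submodule.span F {x}) (x := y) (by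
      rw [Submodule.mem_span_singleton]
      rintro ⟨c, hc⟩
      exact one_ne_zero (neg_eq_zero.1 (LinearIndependent.pair_iff.1 hxy c (-1) (by rw [hc]; module)).2))
    have h1 : wedge x y *ᵥ φ = x := by
      rw [wedge, sub_mulVec, vecMulVec_mulVec, vecMulVec_mulVec, dotProduct_comm x,
        hφW x (Submodule.mem_span_singleton_self _), dotProduct_comm, hφ1]
      simp
    rcases he with he | he
    · exact ⟨φ, by rw [← he, h1]⟩
    · exact ⟨-φ, by rw [mulVec_neg, ← neg_mulVec, ← he, h1]⟩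
  obtain ⟨p, r, hp⟩ := hin _ (himg (t 0) (t 1) ht' (Or.inl ht.2))
  obtain ⟨p', r', hp'⟩ := hin _ (himg (t 1) (t 0) (LinearIndependent.pair_symm_iff.1 ht') (Or.inr (by
    rw [← ht.2, wedge, wedge, neg_sub])))
  have hd : p * r' - r * p' = 1 := by
    have h1 := wedge_smul_add (s 0) (s 1) p r p' r'
    rw [← hp, ← hp', ht.2, hs.2] at h1
    obtain ⟨i, j, hij⟩ : ∃ i j, B i j ≠ 0 := by
      by_contra hc
      push Not at hc
      exact hB0 (by ext i j; simpa using hc i j)
    have h2 := congrFun (congrFun h1 i) j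
    rw [Matrix.smul_apply, smul_eq_mul] at h2
    exact mul_right_cancel₀ hij (by rw [← h2, one_mul])
  refine ⟨⟨!![p, r; p', r'], by rw [det_fin_two_of, hd]⟩, Finset.mem_coe.2 (Finset.mem_univ _), ?_⟩
  funext i
  fin_cases i
  · simpa using hp.symm
  · simpa using hp'.symm

/-- Rank two orbits are large. -/
theorem card_rank_two (hm : 3 ≤ m) (T : Finset (Matrix (Fin m) (Fin m) F))
    (hT : ∀ g : SpecialLinearGroup (Fin m) F, ∀ B ∈ T, g.1ᵀ * B * g.1 ∈ T) {u v : Fin m → F}
    (h : wedge u v ∈ T) (hne : wedge u v ≠ 0) :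
    (Fintype.card F ^ m - 1) * (Fintype.card F ^ (m - 1) - 1) ≤ (Fintype.card F ^ 2 - 1) * T.card := by
  classical
  set q := Fintype.card F with hq
  have hli := linearIndependent_pair_of_wedge hne
  let i₀ : Fin m := ⟨0, by omega⟩
  let i₁ : Fin m := ⟨1, by omega⟩
  have h01 : i₀ ≠ i₁ := by simp [i₀, i₁, Fin.ext_iff]
  have hall : ∀ s : Fin 2 → Fin m → F, LinearIndependent F s → wedge (s 0) (s 1) ∈ T := by
    intro s hs
    obtain ⟨g, hg0, hg1⟩ := exists_sl_pair hm h01 hli
    have hs' : LinearIndependent F ![s 0, s 1] := by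
      convert hs using 1; funext i; fin_cases i <;> rfl
    obtain ⟨k, hk0, hk1⟩ := exists_sl_pair hm h01 hs'
    have hmem := hT ⟨((k * g⁻¹ : SpecialLinearGroup (Fin m) F).1)ᵀ, by
      rw [det_transpose]; exact (k * g⁻¹).2⟩ _ h
    rw [congr_wedge, transpose_transpose] at hmem
    have hinv : ∀ (x y : Fin m → F), g.1 *ᵥ x = y → (k * g⁻¹).1 *ᵥ y = k.1 *ᵥ x := fun x y e => by
      rw [← e, mulVec_mulVec, ← sl_mul_val, inv_mul_cancel_right]
    rwa [hinv _ _ hg0, hinv _ _ hg1, hk0, hk1] at hmem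
  let D := Finset.univ.filter fun s : Fin 2 → Fin m → F => LinearIndependent F s
  have hD : D.card = (q ^ m - 1) * (q ^ m - q) := by
    have h1 := card_linearIndependent (K := F) (V := Fin m → F) (k := 2) (by simp; omega)
    rw [Nat.card_eq_fintype_card, Fintype.card_subtype] at h1
    rw [show D.card = _ from h1, Fin.prod_univ_two, Module.finrank_fintype_fun_eq_card, Fintype.card_fin]
    simp [hq]
  have hsl : Nat.card (SpecialLinearGroup (Fin 2) F) = q * (q ^ 2 - 1) := by
    rw [card_sl2, ← hq]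
    congr 1
    rw [mul_comm, ← Nat.sq_sub_sq, one_pow]
  have hfib : ∀ B ∈ T, (D.filter fun s => wedge (s 0) (s 1) = B).card ≤ q * (q ^ 2 - 1) := fun B _ => by
    rw [Finset.filter_filter]
    convert (fibre_le B).trans_eq hsl
  have hmain : D.card ≤ q * (q ^ 2 - 1) * T.card :=
    Finset.card_le_mul_card_image_of_maps_to (f := fun s => wedge (s 0) (s 1))
      (fun s hs => hall s (Finset.mem_filter.1 hs).2) _ hfib
  rw [hD] at hmain
  have hq0 : 0 < q := Fintype.card_pos
  have e1 : q * (q ^ (m - 1) - 1) = q ^ m - q := by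
    rw [Nat.mul_sub, mul_one, ← pow_succ', show m - 1 + 1 = m by omega]
  have e2 : q * ((q ^ m - 1) * (q ^ (m - 1) - 1)) ≤ q * ((q ^ 2 - 1) * T.card) := by
    rw [mul_left_comm, e1, ← mul_assoc]
    exact hmain
  exact (Nat.mul_le_mul_left_iff hq0).1 e2

end Pairs

/-- A nonzero alternating matrix is a wedge or has two orthogonal hyperbolic pairs after a congruence. -/
theorem wedge_or_pairs {B : Matrix (Fin m) (Fin m) F} (hB : IsAlt B) (h0 : B ≠ 0) :
    (∃ u v, B = wedge u v) ∨ ∃ (g : SpecialLinearGroup (Fin m) F) (i j k l : Fin m),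
      [i, j, k, l].Nodup ∧ (g.1ᵀ * B * g.1) i j ≠ 0 ∧ (g.1ᵀ * B * g.1) k l ≠ 0 ∧
      (∀ x, x ≠ j → (g.1ᵀ * B * g.1) i x = 0) ∧ ∀ x, x ≠ i → (g.1ᵀ * B * g.1) j x = 0 := by
  obtain ⟨i, j, hij⟩ : ∃ i j, B i j ≠ 0 := by
    by_contra hc
    push Not at hc
    exact h0 (by ext i j; simpa using hc i j)
  have hne : i ≠ j := fun e => hij (e ▸ hB.2 i)
  set β := B i j with hβ
  have hji : B j i = -β := hB.1 i j
  by_cases hW : ∀ x y, B x y = β⁻¹ * (B i x * B j y - B j x * B i y)
  · refine Or.inl ⟨β⁻¹ • (fun x => B i x), fun x => B j x, ?_⟩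
    ext x y
    rw [hW x y, wedge_apply]
    simp
    ring
  · push Not at hW
    obtain ⟨k, l, hkl⟩ := hW
    let c : Fin m → F := fun x => if x = i ∨ x = j then 0 else β⁻¹ * B j x
    let d : Fin m → F := fun x => if x = i ∨ x = j then 0 else -(β⁻¹ * B i x)
    have hci : c i = 0 := by simp [c]
    have hdj : d j = 0 := by simp [d]
    set B' := (trow i c hci * trow j d hdj).1ᵀ * B * (trow i c hci * trow j d hdj).1 with hB'
    have hval : ∀ x y, B' x y = (B x y + c x * B i y + B x i * c y) +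
        d x * (B j y + c j * B i y + B j i * c y) + (B x j + c x * B i j + B x i * c j) * d y +
        d x * (B j j + c j * B i j + B j i * c j) * d y := by
      intro x y
      rw [hB', sl_mul_val, transpose_mul, Matrix.mul_assoc _ _ B, Matrix.mul_assoc _ _ (_ * _),
        ← Matrix.mul_assoc ((trow i c hci).1ᵀ * B), ← Matrix.mul_assoc, trow_mul_apply, trow_mul_apply,
        trow_mul_apply, trow_mul_apply, trow_mul_apply, hB.2 i]
      ring
    have hcj : c j = 0 := by simp [c]
    have hdi : d i = 0 := by simp [d]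
    have hrowi : ∀ x, x ≠ j → B' i x = 0 := by
      intro x hx
      rw [hval, hci, hdi, hB.2 i, hcj]
      rcases eq_or_ne x i with rfl | hxi
      · simp [hdi, hB.2]
      · have : d x = -(β⁻¹ * B i x) := by simp [d, hx, hxi]
        rw [this, ← hβ]
        field_simp
        ring
    have hrowj : ∀ x, x ≠ i → B' j x = 0 := by
      intro x hx
      rw [hval, hcj, hdj, hB.2 j, hji]
      rcases eq_or_ne x j with rfl | hxj
      · simp [hdj, hcj, hB.2]
      · have : c x = β⁻¹ * B j x := by simp [c, hx, hxj]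
        rw [this]
        field_simp
        ring
    have hcore : ∀ x y, x ≠ i → x ≠ j → y ≠ i → y ≠ j →
        B' x y = B x y - β⁻¹ * (B i x * B j y - B j x * B i y) := by
      intro x y hxi hxj hyi hyj
      rw [hval, hB.2 j, hcj, hji, ← hβ, hB.1 i x, hB.1 j x]
      simp only [c, d, hxi, hxj, hyi, hyj, or_self, if_false]
      field_simp
      ring
    have hk : k ≠ i ∧ k ≠ j := by
      constructor <;> intro e <;> apply hkl <;> subst e
      · rw [hB.2, hji]; field_simp; ring
      · rw [hB.2, ← hβ]; field_simp; ring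
    have hl : l ≠ i ∧ l ≠ j := by
      constructor <;> intro e <;> apply hkl <;> subst e
      · rw [hB.2, hji, hB.1 l k]; field_simp; ring
      · rw [hB.2, ← hβ, hB.1 l k]; field_simp; ring
    have hkl' : B' k l ≠ 0 := by
      rw [hcore k l hk.1 hk.2 hl.1 hl.2]
      exact sub_ne_zero.2 hkl
    have hkne : k ≠ l := by
      intro e
      subst e
      apply hkl'
      rw [hcore k k hk.1 hk.2 hk.1 hk.2, hB.2]
      ring
    refine Or.inr ⟨trow i c hci * trow j d hdj, i, j, k, l, ?_, ?_, hkl', hrowi, hrowj⟩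
    · simp [hne, hk.1.symm, hk.2.symm, hl.1.symm, hl.2.symm, hkne]
    · rw [← hB', hval, hci, hdi, hdj, hcj]
      simpa using hij

/-- The congruences that move two rows of a normal form. -/
theorem family_injective {B : Matrix (Fin m) (Fin m) F} {i j : Fin m} (hij : B i j ≠ 0) (hB : IsAlt B)
    (hi : ∀ x, x ≠ j → B i x = 0) (hj : ∀ x, x ≠ i → B j x = 0) :
    Function.Injective fun p : {x : Fin m // x ≠ i ∧ x ≠ j} → F × F =>
      (trow i (fun x => if h : x ≠ i ∧ x ≠ j then (p ⟨x, h⟩).1 else 0) (by simp) *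
        trow j (fun x => if h : x ≠ i ∧ x ≠ j then (p ⟨x, h⟩).2 else 0) (by simp)).1ᵀ * B *
      (trow i (fun x => if h : x ≠ i ∧ x ≠ j then (p ⟨x, h⟩).1 else 0) (by simp) *
        trow j (fun x => if h : x ≠ i ∧ x ≠ j then (p ⟨x, h⟩).2 else 0) (by simp)).1 := by
  intro p p' h
  funext ⟨x, hx⟩
  have hne : i ≠ j := fun e => hij (e ▸ hB.2 i)
  simp only [sl_mul_val, transpose_mul] at h
  have key : ∀ (c d : Fin m → F) (hc : c i = 0) (hd : d j = 0) (hcj : c j = 0) (hdi : d i = 0),
      ((trow j d hd).1ᵀ * (trow i c hc).1ᵀ * B * ((trow i c hc).1 * (trow j d hd).1)) i x = B i j * d x ∧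
      ((trow j d hd).1ᵀ * (trow i c hc).1ᵀ * B * ((trow i c hc).1 * (trow j d hd).1)) j x = B j i * c x := by
    intro c d hc hd hcj hdi
    rw [Matrix.mul_assoc _ _ B, Matrix.mul_assoc _ _ (_ * _), ← Matrix.mul_assoc ((trow i c hc).1ᵀ * B),
      ← Matrix.mul_assoc]
    simp only [trow_mul_apply, hc, hd, hcj, hdi, hB.2, hi x hx.2, hj x hx.1]
    constructor <;> ring
  obtain ⟨c1, hc1⟩ : ∃ c : Fin m → F, c = fun x => if h : x ≠ i ∧ x ≠ j then (p ⟨x, h⟩).1 else 0 := ⟨_, rfl⟩
  have a1 := key (fun x => if h : x ≠ i ∧ x ≠ j then (p ⟨x, h⟩).1 else 0)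
    (fun x => if h : x ≠ i ∧ x ≠ j then (p ⟨x, h⟩).2 else 0) (by simp) (by simp) (by simp) (by simp)
  have a2 := key (fun x => if h : x ≠ i ∧ x ≠ j then (p' ⟨x, h⟩).1 else 0)
    (fun x => if h : x ≠ i ∧ x ≠ j then (p' ⟨x, h⟩).2 else 0) (by simp) (by simp) (by simp) (by simp)
  rw [h] at a1
  have e1 := a2.1.symm.trans a1.1
  have e2 := a2.2.symm.trans a1.2
  rw [hB.1 i j] at e2
  simp only [dif_pos hx] at e1 e2
  exact Prod.ext (mul_left_cancel₀ (neg_ne_zero.2 hij) e2).symm (mul_left_cancel₀ hij e1).symm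

end CfsgLib.Classical.WeilOmega
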