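/-
Operators with Heisenberg commutation relations on the range of an idempotent.
-/
import Cfsg.Agent.Lib.LinDeg.Spectral
import Cfsg.Agent.Lib.LinDeg.Core

set_option autoImplicit false

namespace CfsgLib.Classical.WeilOmega

open Module Matrix CfsgLib.LinDeg

variable {F : Type*} [Field F] [Fintype F] {V : Type*} [AddCommGroup V] [Module ℂ V] [FiniteDimensional ℂ V]

theorem sum_rank_le {ι : Type*} [Fintype ι] [DecidableEq ι] (e : ι → Module.End ℂ V)
    (he : ∀ i j, e i * e j = if i = j then e j else 0) (hsum : ∑ i, e i = 1) (S : Finset ι) :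
    ∑ i ∈ S, finrank ℂ (LinearMap.range (e i)) ≤ finrank ℂ V := by
  rw [finrank_eq_sum_range e he hsum]
  exact Finset.sum_le_sum_of_subset (Finset.subset_univ S)

theorem rank_pos {E : Module.End ℂ V} (h : E ≠ 0) : 1 ≤ finrank ℂ (LinearMap.range E) := by
  rw [Nat.one_le_iff_ne_zero]
  intro e
  rw [Submodule.finrank_eq_zero, LinearMap.range_eq_bot] at e
  exact h e

theorem rank_mul_le (A B : Module.End ℂ V) : finrank ℂ (LinearMap.range (A * B)) ≤ finrank ℂ (LinearMap.range A) :=
  Submodule.finrank_mono (LinearMap.range_comp_le_range B A)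

/-- A Heisenberg pair of abelian families forces a large rank. -/
theorem heis {k : ℕ} (ψ : AddChar F ℂ) (hψ : ψ.IsPrimitive) (P : Module.End ℂ V) (hP : P * P = P) (hP0 : P ≠ 0)
    (X Y : (Fin k → F) → Module.End ℂ V) (hX0 : X 0 * P = P)
    (hXadd : ∀ a b, X (a + b) * P = X a * X b * P) (hXP : ∀ a, X a * P = P * X a) (hYP : ∀ c, Y c * P = P * Y c)
    (hYu : ∀ c, IsUnit (Y c)) (hcomm : ∀ a c, X a * Y c * P = ψ (a ⬝ᵥ c) • (Y c * X a * P)) :
    Fintype.card F ^ k ≤ finrank ℂ (LinearMap.range P) := by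
  classical
  have hK := card_ne_zero F ℂ (by
    rw [ringChar.eq_zero]
    exact fun h => CharP.ringChar_ne_zero_of_finite F h.symm)
  set τ : (Fin k → F) → Module.End ℂ V := fun a => X a * P + (1 - P) with hτ
  have hP1 : P * (1 - P) = 0 := by rw [mul_sub, mul_one, hP, sub_self]
  have h1P : (1 - P) * P = 0 := by rw [sub_mul, one_mul, hP, sub_self]
  have h11 : (1 - P) * (1 - P) = 1 - P := by rw [sub_mul, one_mul, hP1, sub_zero]
  have h0 : τ 0 = 1 := by simp only [hτ]; rw [hX0]; abel
  have hadd : ∀ a b, τ (a + b) = τ a * τ b := fun a b => by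
    simp only [hτ]
    rw [hXadd, add_mul, mul_add, mul_add, mul_assoc (X a) P (1 - P), hP1, mul_zero, h11,
      mul_assoc (X a) P (X b * P), ← mul_assoc P (X b) P, ← hXP, mul_assoc (X b) P P, hP,
      ← mul_assoc (1 - P) (X b) P, sub_mul 1 P (X b), one_mul, ← hXP, sub_mul (X b), mul_assoc (X b) P P, hP,
      sub_self, ← mul_assoc (X a)]
    abel
  have hPτ : ∀ a, P * τ a = τ a * P := fun a => by
    simp only [hτ]
    rw [mul_add, hP1, add_mul, h1P, ← mul_assoc, ← hXP]
  set E := eigProj ψ τ with hE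
  have hPE : ∀ w, P * E w = E w * P := fun w => by
    simp only [hE, eigProj, mul_smul_comm, smul_mul_assoc, Finset.mul_sum, Finset.sum_mul, hPτ]
  -- the shift
  have hshift : ∀ c w, Y c * (E w * P) = (E (w + c) * P) * Y c := fun c w => by
    have h1 : ∀ a, τ a * P = X a * P := fun a => by
      simp only [hτ]; rw [add_mul, h1P, add_zero, mul_assoc, hP]
    have h2 : ∀ a, τ a * P * Y c = ψ (a ⬝ᵥ c) • (Y c * (τ a * P)) := fun a => by
      rw [h1, mul_assoc, ← hYP, ← mul_assoc, hcomm, mul_assoc]
    simp only [hE, eigProj, mul_smul_comm, smul_mul_assoc, Finset.mul_sum, Finset.sum_mul, h2, smul_smul]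
    congr 1
    refine Finset.sum_congr rfl fun a _ => ?_
    rw [← AddChar.map_add_eq_mul, dotProduct_add, neg_add, neg_add_cancel_right]
  obtain ⟨w₀, hw₀⟩ : ∃ w, E w * P ≠ 0 := by
    by_contra h
    push Not at h
    apply hP0
    rw [← one_mul P, ← sum_eigProj ψ hψ τ h0 hK, Finset.sum_mul]
    exact Finset.sum_eq_zero fun w _ => h w
  have hne : ∀ w, E w * P ≠ 0 := fun w h => hw₀ (by
    have h' := hshift (w - w₀) w₀
    rw [add_sub_cancel, h, zero_mul] at h'
    exact (hYu (w - w₀)).mul_right_eq_zero.1 h')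
  let e : Option (Fin k → F) → Module.End ℂ V := fun o => o.elim (1 - P) fun w => E w * P
  have he : ∀ i j, e i * e j = if i = j then e j else 0 := by
    rintro (_ | w) (_ | w')
    · simpa [e] using h11
    · simp only [e, Option.elim, reduceCtorEq, if_false]
      rw [← hPE, ← mul_assoc, h1P, zero_mul]
    · simp only [e, Option.elim, reduceCtorEq, if_false]
      rw [mul_assoc, hP1, mul_zero]
    · simp only [e, Option.elim, Option.some.injEq]
      rw [mul_assoc, ← mul_assoc P, hPE, mul_assoc (E w'), hP, ← mul_assoc, hE, eigProj_mul ψ hψ τ hadd hK]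
      split_ifs <;> simp
  have hsum : ∑ i, e i = 1 := by
    rw [Fintype.sum_option]
    simp only [e, Option.elim]
    rw [← Finset.sum_mul, hE, sum_eigProj ψ hψ τ h0 hK, one_mul, sub_add_cancel]
  have hr := finrank_eq_sum_range e he hsum
  rw [Fintype.sum_option] at hr
  simp only [e, Option.elim] at hr
  have hproj : LinearMap.IsProj (LinearMap.range P) P :=
    ⟨fun x => ⟨x, rfl⟩, fun x hx => by
      obtain ⟨z, rfl⟩ := hx
      rw [← Module.End.mul_apply, hP]⟩
  have hcompl : finrank ℂ V = finrank ℂ (LinearMap.range (1 - P)) + finrank ℂ (LinearMap.range P) := by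
    let e2 : Bool → Module.End ℂ V := fun o => bif o then P else 1 - P
    have := finrank_eq_sum_range e2 (by rintro (_ | _) (_ | _) <;> simp [e2, hP, hP1, h1P, h11])
      (by simp [e2])
    simpa [e2, add_comm] using this
  have hcount : ∑ _w : Fin k → F, 1 ≤ ∑ w, finrank ℂ (LinearMap.range (E w * P)) :=
    Finset.sum_le_sum fun w _ => rank_pos (hne w)
  simp only [Finset.sum_const, Finset.card_univ, Fintype.card_fun, Fintype.card_fin, smul_eq_mul, mul_one] at hcount
  have hle : Fintype.card F ^ k + finrank ℂ (LinearMap.range (1 - P)) ≤ finrank ℂ V := by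
    refine le_trans ?_ (le_of_eq hr.symm)
    rw [add_comm]
    exact Nat.add_le_add_left (hcount.trans (le_of_eq (Finset.sum_congr (by ext; simp) fun _ _ => rfl))) _
  omega

end CfsgLib.Classical.WeilOmega
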