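/-
Elements of the Siegel parabolic of the minus type orthogonal group, in block form.
-/
import Cfsg.Prelude.Def_Classical
import Cfsg.Agent.Lib.Classical.WeilSU.Frame

set_option autoImplicit false

namespace CfsgLib.Classical.WeilOmega

open Matrix CfsgLib.Classical.WeilSU
open scoped commutatorElement

variable {F : Type*} [Field F] {m : ℕ} (a b : F)

/-- The matrix of the binary form. -/
def nMat : Matrix (Fin 2) (Fin 2) F := !![1, a; 0, b]

/-- The polar matrix of the binary form. -/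
def pMat : Matrix (Fin 2) (Fin 2) F := nMat a b + (nMat a b)ᵀ

theorem pMat_symm : (pMat a b)ᵀ = pMat a b := by rw [pMat, transpose_add, transpose_transpose, add_comm]

theorem nMat_form (z : Fin 2 → F) : z ⬝ᵥ nMat a b *ᵥ z = z 0 ^ 2 + a * z 0 * z 1 + b * z 1 ^ 2 := by
  simp [nMat, dotProduct, mulVec, Fin.sum_univ_two]; ring

/-- A vector by its three parts. -/
def vec3 (x y : Fin m → F) (z : Fin 2 → F) : Idx m 2 → F := Sum.elim (Sum.elim x y) z

theorem vec3_eta (v : Idx m 2 → F) :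
    vec3 (fun i => v (.inl (.inl i))) (fun i => v (.inl (.inr i))) (fun i => v (.inr i)) = v := by
  funext k; rcases k with (k | k) | k <;> rfl

theorem exists_vec3 (v : Idx m 2 → F) : ∃ x y z, v = vec3 x y z := ⟨_, _, _, (vec3_eta v).symm⟩

theorem vec3_inj {x x' y y' : Fin m → F} {z z' : Fin 2 → F} (h : vec3 x y z = vec3 x' y' z') :
    x = x' ∧ y = y' ∧ z = z' :=
  ⟨funext fun i => congrFun h (.inl (.inl i)), funext fun i => congrFun h (.inl (.inr i)),
    funext fun i => congrFun h (.inr i)⟩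

theorem vec3_add (x x' y y' : Fin m → F) (z z' : Fin 2 → F) :
    vec3 x y z + vec3 x' y' z' = vec3 (x + x') (y + y') (z + z') := by
  funext k; rcases k with (k | k) | k <;> rfl

theorem qf_vec3 (x y : Fin m → F) (z : Fin 2 → F) :
    Cfsg.quadFormMinus m F a b (vec3 x y z) = x ⬝ᵥ y + z ⬝ᵥ nMat a b *ᵥ z := by
  rw [nMat_form]; rfl

theorem polar_vec3 (x x' y y' : Fin m → F) (z z' : Fin 2 → F) :
    QuadraticMap.polar (Cfsg.quadFormMinus m F a b) (vec3 x y z) (vec3 x' y' z') =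
      x ⬝ᵥ y' + y ⬝ᵥ x' + z ⬝ᵥ pMat a b *ᵥ z' := by
  rw [QuadraticMap.polar, vec3_add, qf_vec3, qf_vec3, qf_vec3, nMat_form, nMat_form, nMat_form,
    add_dotProduct, dotProduct_add, dotProduct_add, dotProduct_comm x' y]
  simp [pMat, nMat, dotProduct, mulVec, Fin.sum_univ_two]
  ring

theorem blk3_mulVec (A B : Matrix (Fin m) (Fin m) F) (C : Matrix (Fin m) (Fin 2) F) (D E : Matrix (Fin m) (Fin m) F)
    (G : Matrix (Fin m) (Fin 2) F) (H K : Matrix (Fin 2) (Fin m) F) (L : Matrix (Fin 2) (Fin 2) F)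
    (x y : Fin m → F) (z : Fin 2 → F) :
    blk3 A B C D E G H K L *ᵥ vec3 x y z =
      vec3 (A *ᵥ x + B *ᵥ y + C *ᵥ z) (D *ᵥ x + E *ᵥ y + G *ᵥ z) (H *ᵥ x + K *ᵥ y + L *ᵥ z) := by
  funext k
  rcases k with (k | k) | k <;>
    simp only [blk3, vec3, mulVec, dotProduct, Fintype.sum_sum_type, Pi.add_apply, fromBlocks_apply₁₁,
      fromBlocks_apply₁₂, fromBlocks_apply₂₁, fromBlocks_apply₂₂, fromRows_apply_inl, fromRows_apply_inr,
      fromCols_apply_inl, fromCols_apply_inr, Sum.elim_inl, Sum.elim_inr]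

/-- The alternating-plus-correction block of an element of the radical. -/
def aBlk (w : Matrix (Fin 2) (Fin m) F) (M : Matrix (Fin m) (Fin m) F) : Matrix (Fin m) (Fin m) F :=
  M - Mᵀ - wᵀ * nMat a b * w

/-- An element of the radical. -/
def elMat (w : Matrix (Fin 2) (Fin m) F) (M : Matrix (Fin m) (Fin m) F) : Matrix (Idx m 2) (Idx m 2) F :=
  blk3 1 (aBlk a b w M) (-(wᵀ * pMat a b)) 0 1 0 0 w 1

theorem elMat_mul (w w' : Matrix (Fin 2) (Fin m) F) (M M' : Matrix (Fin m) (Fin m) F) :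
    elMat a b w M * elMat a b w' M' = elMat a b (w + w') (M + M' + w'ᵀ * nMat a b * w) := by
  rw [elMat, elMat, elMat, blk3_mul]
  congr 1 <;> simp only [aBlk, pMat, transpose_add, transpose_mul, transpose_transpose, Matrix.add_mul,
    Matrix.mul_add, Matrix.neg_mul, Matrix.mul_neg, Matrix.mul_assoc, Matrix.mul_zero, Matrix.zero_mul,
    Matrix.one_mul, Matrix.mul_one, zero_add, add_zero, neg_zero] <;> abel

theorem elMat_zero : elMat a b (0 : Matrix (Fin 2) (Fin m) F) 0 = 1 := by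
  rw [elMat, ← blk3_one]; simp [aBlk]

theorem elMat_preserves (w : Matrix (Fin 2) (Fin m) F) (M : Matrix (Fin m) (Fin m) F) (v : Idx m 2 → F) :
    Cfsg.quadFormMinus m F a b (elMat a b w M *ᵥ v) = Cfsg.quadFormMinus m F a b v := by
  obtain ⟨x, y, z, rfl⟩ := exists_vec3 v
  rw [elMat, blk3_mulVec, qf_vec3, qf_vec3]
  simp only [one_mulVec, zero_mulVec, zero_add, add_zero, aBlk, sub_mulVec, neg_mulVec, ← mulVec_mulVec]
  set u := w *ᵥ y with hu
  have h1 : (M *ᵥ y) ⬝ᵥ y = (Mᵀ *ᵥ y) ⬝ᵥ y := by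
    rw [mulVec_transpose, ← dotProduct_mulVec, dotProduct_comm]
  have h2 : ∀ t, (wᵀ *ᵥ t) ⬝ᵥ y = t ⬝ᵥ u := fun t => by rw [hu, mulVec_transpose, ← dotProduct_mulVec]
  simp only [add_dotProduct, sub_dotProduct, neg_dotProduct, h1, sub_self, h2]
  simp [pMat, nMat, mulVec, dotProduct, Fin.sum_univ_two]
  ring

/-- The radical inside the isometry group. -/
def elI (w : Matrix (Fin 2) (Fin m) F) (M : Matrix (Fin m) (Fin m) F) :
    Cfsg.isometryGroup F (Cfsg.quadFormMinus m F a b) :=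
  ⟨⟨elMat a b w M, elMat a b (-w) (-M + wᵀ * nMat a b * w), by
      rw [elMat_mul, add_neg_cancel, ← elMat_zero a b]
      congr 1; rw [transpose_neg, Matrix.neg_mul, Matrix.neg_mul]; abel, by
      rw [elMat_mul, neg_add_cancel, ← elMat_zero a b]
      congr 1; rw [Matrix.mul_neg]; abel⟩,
    fun u _ => elMat_preserves a b w M u⟩

theorem elI_val (w : Matrix (Fin 2) (Fin m) F) (M : Matrix (Fin m) (Fin m) F) :
    (elI a b w M).1.1 = elMat a b w M := rfl

theorem iso_ext {Q : (Idx m 2 → F) → F} {g h : Cfsg.isometryGroup F Q} (e : g.1.1 = h.1.1) : g = h :=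
  Subtype.ext (Units.ext e)

theorem elI_mul (w w' : Matrix (Fin 2) (Fin m) F) (M M' : Matrix (Fin m) (Fin m) F) :
    elI a b w M * elI a b w' M' = elI a b (w + w') (M + M' + w'ᵀ * nMat a b * w) :=
  iso_ext (elMat_mul a b w w' M M')

theorem elI_zero : elI a b (0 : Matrix (Fin 2) (Fin m) F) 0 = 1 := iso_ext (elMat_zero a b)

theorem elI_congr {w : Matrix (Fin 2) (Fin m) F} {M M' : Matrix (Fin m) (Fin m) F}
    (h : M - Mᵀ = M' - M'ᵀ) : elI a b w M = elI a b w M' :=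
  iso_ext (by simp only [elI_val, elMat, aBlk, h])

/-- The Levi complement. -/
def leI : GL (Fin m) F →* Cfsg.isometryGroup F (Cfsg.quadFormMinus m F a b) where
  toFun g :=
    ⟨⟨blk3 g.1 0 0 0 (g⁻¹).1ᵀ 0 0 0 1, blk3 (g⁻¹).1 0 0 0 g.1ᵀ 0 0 0 1, by
        rw [blk3_mul, ← blk3_one]; simp [← transpose_mul], by
        rw [blk3_mul, ← blk3_one]; simp [← transpose_mul]⟩,
      fun u _ => by
        obtain ⟨x, y, z, rfl⟩ := exists_vec3 u
        show Cfsg.quadFormMinus m F a b (blk3 g.1 0 0 0 (g⁻¹).1ᵀ 0 0 0 1 *ᵥ _) = Cfsg.quadFormMinus m F a b (vec3 x y z)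
        rw [blk3_mulVec, qf_vec3, qf_vec3]
        simp only [zero_mulVec, one_mulVec, add_zero, zero_add]
        rw [mulVec_transpose, dotProduct_comm, ← dotProduct_mulVec, mulVec_mulVec, ← Units.val_mul,
          inv_mul_cancel, Units.val_one, one_mulVec, dotProduct_comm]⟩
  map_one' := iso_ext (by simp [blk3_one])
  map_mul' g h := iso_ext (by
    show blk3 (g * h).1 0 0 0 ((g * h)⁻¹).1ᵀ 0 0 0 1 = blk3 g.1 0 0 0 (g⁻¹).1ᵀ 0 0 0 1 * blk3 h.1 0 0 0 (h⁻¹).1ᵀ 0 0 0 1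
    rw [blk3_mul]; simp [transpose_mul])

theorem leI_val (g : GL (Fin m) F) : (leI a b g).1.1 = blk3 g.1 0 0 0 (g⁻¹).1ᵀ 0 0 0 1 := rfl

theorem leI_mul_elI (g : GL (Fin m) F) (w : Matrix (Fin 2) (Fin m) F) (M : Matrix (Fin m) (Fin m) F) :
    leI a b g * elI a b w M = elI a b (w * g.1ᵀ) (g.1 * M * g.1ᵀ) * leI a b g := by
  refine iso_ext ?_
  show blk3 g.1 0 0 0 (g⁻¹).1ᵀ 0 0 0 1 * elMat a b w M = elMat a b _ _ * blk3 g.1 0 0 0 (g⁻¹).1ᵀ 0 0 0 1
  rw [elMat, elMat, blk3_mul, blk3_mul]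
  have h1 : g.1ᵀ * (g⁻¹).1ᵀ = 1 := by rw [← transpose_mul, ← Units.val_mul, inv_mul_cancel]; simp
  simp only [aBlk, transpose_mul, transpose_transpose, Matrix.add_mul, Matrix.sub_mul, Matrix.mul_sub,
    Matrix.mul_assoc, h1, Matrix.mul_zero, Matrix.zero_mul, Matrix.one_mul, Matrix.mul_one, zero_add, add_zero,
    Matrix.mul_neg, Matrix.neg_mul, sub_zero, neg_zero]

/-- The isometries of the binary part. -/
def rotI (h h' : Matrix (Fin 2) (Fin 2) F) (e : h * h' = 1)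
    (hN : ∀ z, (h *ᵥ z) ⬝ᵥ nMat a b *ᵥ (h *ᵥ z) = z ⬝ᵥ nMat a b *ᵥ z) :
    Cfsg.isometryGroup F (Cfsg.quadFormMinus m F a b) :=
  ⟨⟨blk3 1 0 0 0 1 0 0 0 h, blk3 1 0 0 0 1 0 0 0 h', by rw [blk3_mul, ← blk3_one]; simp [e], by
      rw [blk3_mul, ← blk3_one]; simp [mul_eq_one_comm.1 e]⟩,
    fun u _ => by
      obtain ⟨x, y, z, rfl⟩ := exists_vec3 u
      show Cfsg.quadFormMinus m F a b (blk3 1 0 0 0 1 0 0 0 h *ᵥ _) = Cfsg.quadFormMinus m F a b (vec3 x y z)
      rw [blk3_mulVec, qf_vec3, qf_vec3]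
      simp only [zero_mulVec, one_mulVec, add_zero, zero_add, hN]⟩

/-- The interchange of the two vectors of a hyperbolic pair. -/
def swI (i : Fin m) : Cfsg.isometryGroup F (Cfsg.quadFormMinus m F a b) :=
  ⟨⟨blk3 (1 - single i i 1) (single i i 1) 0 (single i i 1) (1 - single i i 1) 0 0 0 1,
    blk3 (1 - single i i 1) (single i i 1) 0 (single i i 1) (1 - single i i 1) 0 0 0 1, by
      rw [blk3_mul, ← blk3_one]
      congr 1 <;> simp [Matrix.sub_mul, Matrix.mul_sub], by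
      rw [blk3_mul, ← blk3_one]
      congr 1 <;> simp [Matrix.sub_mul, Matrix.mul_sub]⟩,
    fun u _ => by
      obtain ⟨x, y, z, rfl⟩ := exists_vec3 u
      show Cfsg.quadFormMinus m F a b
        (blk3 (1 - single i i 1) (single i i 1) 0 (single i i 1) (1 - single i i 1) 0 0 0 1 *ᵥ _) = Cfsg.quadFormMinus m F a b (vec3 x y z)
      rw [blk3_mulVec, qf_vec3, qf_vec3]
      simp only [sub_mulVec, one_mulVec, zero_mulVec, add_zero, zero_add, single_mulVec, one_mul]
      rw [show Function.update (0 : Fin m → F) i (x i) = Pi.single i (x i) from rfl,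
        show Function.update (0 : Fin m → F) i (y i) = Pi.single i (y i) from rfl]
      simp only [add_dotProduct, sub_dotProduct, dotProduct_add, dotProduct_sub, single_dotProduct,
        dotProduct_single, Pi.add_apply, Pi.sub_apply, Pi.single_eq_same]
      ring⟩

end CfsgLib.Classical.WeilOmega
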