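/-
The elements of the Siegel parabolic that lie in the commutator subgroup of the orthogonal group.
-/
import Cfsg.Agent.Lib.Classical.WeilOmega.Elems
import Cfsg.Agent.Lib.Classical.SLBasic

set_option autoImplicit false

namespace CfsgLib.Classical.WeilOmega

open Matrix CfsgLib.Classical.WeilSU
open scoped commutatorElement

variable {F : Type*} [Field F] {m : ℕ} (a b : F)

/-- The group under consideration. -/
abbrev Om (F : Type*) [Field F] (m : ℕ) (a b : F) : Type _ :=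
  ↥(Cfsg.Omega F (Cfsg.quadFormMinus m F a b))

theorem comm_mem (g h : Cfsg.isometryGroup F (Cfsg.quadFormMinus m F a b)) :
    g * h * g⁻¹ * h⁻¹ ∈ Cfsg.Omega F (Cfsg.quadFormMinus m F a b) :=
  Subgroup.commutator_mem_commutator (Subgroup.mem_top g) (Subgroup.mem_top h)

theorem leI_sl_mem (hm : 3 ≤ m) (g : SpecialLinearGroup (Fin m) F) :
    leI a b (SpecialLinearGroup.toGL g) ∈ Cfsg.Omega F (Cfsg.quadFormMinus m F a b) := by
  have h := CfsgLib.Classical.sl_commutator (F := F) hm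
  have hm' := Subgroup.map_commutator ⊤ ⊤ ((leI a b).comp (SpecialLinearGroup.toGL (n := Fin m) (R := F)))
  rw [← commutator_def, h] at hm'
  have : leI a b (SpecialLinearGroup.toGL g) ∈
      (⊤ : Subgroup (SpecialLinearGroup (Fin m) F)).map ((leI a b).comp SpecialLinearGroup.toGL) :=
    Subgroup.mem_map_of_mem _ (Subgroup.mem_top g)
  rw [hm'] at this
  exact Subgroup.commutator_mono le_top le_top this

/-- The elementary transvection. -/
def trv {i j : Fin m} (hij : i ≠ j) (c : F) : SpecialLinearGroup (Fin m) F :=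
  ⟨transvection i j c, det_transvection_of_ne i j hij c⟩

theorem trv_val {i j : Fin m} (hij : i ≠ j) (c : F) :
    (SpecialLinearGroup.toGL (trv hij c)).1 = transvection i j c := rfl

theorem elI_inv (w : Matrix (Fin 2) (Fin m) F) (M : Matrix (Fin m) (Fin m) F) :
    (elI a b w M)⁻¹ = elI a b (-w) (-M + wᵀ * nMat a b * w) := by
  rw [inv_eq_iff_mul_eq_one, elI_mul, add_neg_cancel, ← elI_zero a b]
  congr 1
  rw [transpose_neg, Matrix.neg_mul, Matrix.neg_mul]
  abel

theorem leI_comm_elI (g : GL (Fin m) F) (w : Matrix (Fin 2) (Fin m) F) (M : Matrix (Fin m) (Fin m) F) :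
    leI a b g * elI a b w M * (leI a b g)⁻¹ * (elI a b w M)⁻¹ =
      elI a b (w * g.1ᵀ - w) (g.1 * M * g.1ᵀ + (-M + wᵀ * nMat a b * w) + (-w)ᵀ * nMat a b * (w * g.1ᵀ)) := by
  rw [leI_mul_elI, mul_inv_cancel_right, elI_inv, elI_mul, ← sub_eq_add_neg]

theorem exists_third (hm : 3 ≤ m) (i j : Fin m) : ∃ k : Fin m, i ≠ k ∧ j ≠ k := by
  by_contra h
  push Not at h
  have : (Finset.univ : Finset (Fin m)) ⊆ {i, j} := fun k _ => by
    rcases eq_or_ne i k with e | e
    · simp [e]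
    · simp [h k e]
  have := (Finset.card_le_card this).trans Finset.card_le_two
  rw [Finset.card_univ, Fintype.card_fin] at this
  omega

theorem elI_single_mem (hm : 3 ≤ m) (i j : Fin m) (c : F) :
    elI a b 0 (single i j c) ∈ Cfsg.Omega F (Cfsg.quadFormMinus m F a b) := by
  rcases eq_or_ne i j with rfl | hij
  · rw [elI_congr a b (M' := 0) (by rw [transpose_single]; simp), elI_zero]
    exact one_mem _
  · obtain ⟨k, hik, hjk⟩ := exists_third hm i j
    have h := comm_mem a b (leI a b (SpecialLinearGroup.toGL (trv hik c))) (elI a b 0 (single k j 1))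
    rw [leI_comm_elI, trv_val] at h
    convert h using 2
    · simp
    · simp [transvection, Matrix.mul_add, Matrix.add_mul, transpose_add, hjk, hjk.symm, hik, hik.symm]

theorem elI_zero_mem (hm : 3 ≤ m) (M : Matrix (Fin m) (Fin m) F) :
    elI a b 0 M ∈ Cfsg.Omega F (Cfsg.quadFormMinus m F a b) := by
  induction M using Matrix.induction_on' with
  | h_zero => rw [elI_zero]; exact one_mem _
  | h_add M N hM hN =>
    have := mul_mem hM hN
    rwa [elI_mul, add_zero, Matrix.mul_zero, add_zero] at this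
  | h_std_basis i j c => exact elI_single_mem a b hm i j c

theorem elI_of_zero_mem (hm : 3 ≤ m) {w : Matrix (Fin 2) (Fin m) F} {M : Matrix (Fin m) (Fin m) F}
    (h : elI a b w M ∈ Cfsg.Omega F (Cfsg.quadFormMinus m F a b)) (M' : Matrix (Fin m) (Fin m) F) :
    elI a b w M' ∈ Cfsg.Omega F (Cfsg.quadFormMinus m F a b) := by
  have := mul_mem (elI_zero_mem a b hm (M' - M)) h
  rwa [elI_mul, zero_add, Matrix.mul_zero, add_zero, sub_add_cancel] at this

theorem elI_mem (hm : 3 ≤ m) (w : Matrix (Fin 2) (Fin m) F) (M : Matrix (Fin m) (Fin m) F) :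
    elI a b w M ∈ Cfsg.Omega F (Cfsg.quadFormMinus m F a b) := by
  revert M
  induction w using Matrix.induction_on' with
  | h_zero => exact elI_zero_mem a b hm
  | h_add u v hu hv =>
    intro M
    have := mul_mem (hu 0) (hv 0)
    rw [elI_mul] at this
    exact elI_of_zero_mem a b hm this M
  | h_std_basis r i c =>
    obtain ⟨k, hik, -⟩ := exists_third hm i i
    intro M
    refine elI_of_zero_mem a b hm (M := ?_) ?_ M
    rotate_left
    · have h := comm_mem a b (leI a b (SpecialLinearGroup.toGL (trv hik 1))) (elI a b (single r k c) 0)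
      rw [leI_comm_elI, trv_val] at h
      convert h using 2
      simp [transvection, Matrix.mul_add]

/-- Elements of the radical. -/
def el (hm : 3 ≤ m) (w : Matrix (Fin 2) (Fin m) F) (M : Matrix (Fin m) (Fin m) F) : Om F m a b :=
  ⟨elI a b w M, elI_mem a b hm w M⟩

theorem el_mul (hm : 3 ≤ m) (w w' : Matrix (Fin 2) (Fin m) F) (M M' : Matrix (Fin m) (Fin m) F) :
    el a b hm w M * el a b hm w' M' = el a b hm (w + w') (M + M' + w'ᵀ * nMat a b * w) :=
  Subtype.ext (elI_mul a b w w' M M')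

theorem el_zero (hm : 3 ≤ m) : el a b hm (0 : Matrix (Fin 2) (Fin m) F) 0 = 1 := Subtype.ext (elI_zero a b)

theorem el_congr (hm : 3 ≤ m) {w : Matrix (Fin 2) (Fin m) F} {M M' : Matrix (Fin m) (Fin m) F}
    (h : M - Mᵀ = M' - M'ᵀ) : el a b hm w M = el a b hm w M' := Subtype.ext (elI_congr a b h)

theorem leI_mul_el (hm : 3 ≤ m) {g : GL (Fin m) F}
    (hg : leI a b g ∈ Cfsg.Omega F (Cfsg.quadFormMinus m F a b))
    (w : Matrix (Fin 2) (Fin m) F) (M : Matrix (Fin m) (Fin m) F) :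
    (⟨leI a b g, hg⟩ : Om F m a b) * el a b hm w M = el a b hm (w * g.1ᵀ) (g.1 * M * g.1ᵀ) * ⟨leI a b g, hg⟩ :=
  Subtype.ext (leI_mul_elI a b g w M)

/-- The special linear group in the Levi factor. -/
def le (hm : 3 ≤ m) : SpecialLinearGroup (Fin m) F →* Om F m a b :=
  ((leI a b).comp SpecialLinearGroup.toGL).codRestrict _ (leI_sl_mem a b hm)

theorem le_mul_el (hm : 3 ≤ m) (g : SpecialLinearGroup (Fin m) F) (w : Matrix (Fin 2) (Fin m) F)
    (M : Matrix (Fin m) (Fin m) F) :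
    le a b hm g * el a b hm w M = el a b hm (w * g.1ᵀ) (g.1 * M * g.1ᵀ) * le a b hm g :=
  Subtype.ext (leI_mul_elI a b (SpecialLinearGroup.toGL g) w M)

/-- The diagonal matrix with one entry not one. -/
def diagGL (i : Fin m) (u : Fˣ) : GL (Fin m) F :=
  ⟨diagonal (Function.update 1 i (u : F)), diagonal (Function.update 1 i (↑u⁻¹ : F)), by
    rw [diagonal_mul_diagonal, ← diagonal_one]; congr 1; funext k
    by_cases hk : k = i <;> simp [hk], by
    rw [diagonal_mul_diagonal, ← diagonal_one]; congr 1; funext k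
    by_cases hk : k = i <;> simp [hk]⟩

theorem diagGL_mul (i : Fin m) (u v : Fˣ) : diagGL i (u * v) = diagGL i u * diagGL i v := by
  refine Units.ext ?_
  show diagonal _ = diagonal _ * diagonal _
  rw [diagonal_mul_diagonal]; congr 1; funext k
  by_cases hk : k = i <;> simp [hk]

theorem leI_diag_sq_mem (i : Fin m) (u : Fˣ) :
    leI a b (diagGL i (u * u)) ∈ Cfsg.Omega F (Cfsg.quadFormMinus m F a b) := by
  have key : swI a b i * (leI a b (diagGL i u))⁻¹ * (swI a b i)⁻¹ = leI a b (diagGL i u) := by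
    rw [mul_inv_eq_iff_eq_mul]
    refine iso_ext ?_
    show blk3 (1 - single i i 1) (single i i 1) 0 (single i i 1) (1 - single i i 1) 0 0 0 1 *
        blk3 (diagonal (Function.update 1 i (↑u⁻¹ : F))) 0 0 0 (diagonal (Function.update 1 i (u : F)))ᵀ 0 0 0 1 =
      blk3 (diagonal (Function.update 1 i (u : F))) 0 0 0 (diagonal (Function.update 1 i (↑u⁻¹ : F)))ᵀ 0 0 0 1 *
        blk3 (1 - single i i 1) (single i i 1) 0 (single i i 1) (1 - single i i 1) 0 0 0 1
    rw [blk3_mul, blk3_mul]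
    congr 1 <;>
    · simp only [Matrix.mul_zero, Matrix.zero_mul, add_zero, zero_add, diagonal_transpose, Matrix.one_mul]
      try ext k l
      try simp [diagonal_mul, mul_diagonal, Matrix.sub_apply, Matrix.one_apply, single_apply]
      try split_ifs <;> grind [Function.update_apply]
  have h := comm_mem a b (leI a b (diagGL i u)) (swI a b i)
  rw [mul_assoc _ (swI a b i), mul_assoc _ _ (swI a b i)⁻¹, key, ← map_mul, ← diagGL_mul] at h
  exact h

/-- The reflection matrices of the binary form. -/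
def reflMat (v : Fin 2 → F) : Matrix (Fin 2) (Fin 2) F :=
  1 - (v ⬝ᵥ nMat a b *ᵥ v)⁻¹ • vecMulVec v (pMat a b *ᵥ v)

theorem reflMat_apply (v z : Fin 2 → F) :
    reflMat a b v *ᵥ z = z - ((v ⬝ᵥ nMat a b *ᵥ v)⁻¹ * ((pMat a b *ᵥ v) ⬝ᵥ z)) • v := by
  rw [reflMat, sub_mulVec, one_mulVec, smul_mulVec, vecMulVec_mulVec, op_smul_eq_smul, smul_smul]

theorem reflMat_form (v z : Fin 2 → F) (hv : v ⬝ᵥ nMat a b *ᵥ v ≠ 0) :
    (reflMat a b v *ᵥ z) ⬝ᵥ nMat a b *ᵥ (reflMat a b v *ᵥ z) = z ⬝ᵥ nMat a b *ᵥ z := by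
  rw [reflMat_apply]
  set c := v ⬝ᵥ nMat a b *ᵥ v with hc
  have hp : (pMat a b *ᵥ v) ⬝ᵥ z = z ⬝ᵥ nMat a b *ᵥ v + v ⬝ᵥ nMat a b *ᵥ z := by
    simp [pMat, nMat, mulVec, dotProduct, Fin.sum_univ_two]; ring
  rw [mulVec_sub, mulVec_smul, sub_dotProduct, dotProduct_sub, dotProduct_sub, smul_dotProduct, smul_dotProduct,
    dotProduct_smul, dotProduct_smul, ← hc, hp]
  simp only [smul_eq_mul]
  field_simp
  ring

theorem reflMat_sq (v : Fin 2 → F) (hv : v ⬝ᵥ nMat a b *ᵥ v ≠ 0) : reflMat a b v * reflMat a b v = 1 := by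
  refine Matrix.ext_of_mulVec_single fun i => ?_
  rw [← mulVec_mulVec, one_mulVec]
  generalize (Pi.single i (1 : F) : Fin 2 → F) = z
  rw [reflMat_apply, reflMat_apply, dotProduct_sub, dotProduct_smul]
  have hp : (pMat a b *ᵥ v) ⬝ᵥ v = 2 * (v ⬝ᵥ nMat a b *ᵥ v) := by
    simp [pMat, nMat, mulVec, dotProduct, Fin.sum_univ_two]; ring
  rw [hp, smul_eq_mul, sub_sub, ← add_smul, sub_eq_self, smul_eq_zero]
  left
  field_simp
  ring

theorem disc_ne_zero [Finite F] (hab : ∀ z₁ z₂ : F, z₁ ^ 2 + a * z₁ * z₂ + b * z₂ ^ 2 = 0 → z₁ = 0 ∧ z₂ = 0) :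
    4 * b - a ^ 2 ≠ 0 := by
  intro h
  have h1 := hab (-a) 2 (by linear_combination h)
  have ha : a = 0 := by simpa using h1.1
  haveI : CharP F 2 := CharTwo.of_one_ne_zero_of_two_eq_zero one_ne_zero h1.2
  obtain ⟨c, hc⟩ := FiniteField.isSquare_of_char_two (ringChar.eq F 2) b
  exact one_ne_zero (hab c 1 (by rw [ha, hc]; linear_combination (c * c) * h1.2)).2

/-- A rotation of the binary part without fixed vectors. -/
theorem rot_exists [Finite F]
    (hab : ∀ z₁ z₂ : F, z₁ ^ 2 + a * z₁ * z₂ + b * z₂ ^ 2 = 0 → z₁ = 0 ∧ z₂ = 0) :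
    ∃ (h h' : Matrix (Fin 2) (Fin 2) F) (e : h * h' = 1)
      (hN : ∀ z, (h *ᵥ z) ⬝ᵥ nMat a b *ᵥ (h *ᵥ z) = z ⬝ᵥ nMat a b *ᵥ z),
      rotI (m := m) a b h h' e hN ∈ Cfsg.Omega F (Cfsg.quadFormMinus m F a b) ∧ (h - 1).det ≠ 0 := by
  have hd := disc_ne_zero a b hab
  obtain ⟨c, hc⟩ : ∃ c : F, 2 * c + a ≠ 0 := by
    by_cases ha : a = 0
    · refine ⟨1, ?_⟩
      rw [ha, mul_one, add_zero]
      intro h2
      refine hd ?_
      rw [ha]
      linear_combination (2 * b) * h2
    · exact ⟨0, by simpa using ha⟩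
  let v : Fin 2 → F := ![1, 0]
  let w : Fin 2 → F := ![c, 1]
  have hv : v ⬝ᵥ nMat a b *ᵥ v = 1 := by rw [nMat_form]; simp [v]
  have hwn : c ^ 2 + a * c + b ≠ 0 := fun h => one_ne_zero (hab c 1 (by linear_combination h)).2
  have hw : w ⬝ᵥ nMat a b *ᵥ w = c ^ 2 + a * c + b := by rw [nMat_form]; simp [w]
  have sv := reflMat_sq a b v (by rw [hv]; exact one_ne_zero)
  have sw := reflMat_sq a b w (by rw [hw]; exact hwn)
  let r₁ : Cfsg.isometryGroup F (Cfsg.quadFormMinus m F a b) :=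
    rotI a b _ _ sv fun z => reflMat_form a b v z (by rw [hv]; exact one_ne_zero)
  let r₂ : Cfsg.isometryGroup F (Cfsg.quadFormMinus m F a b) :=
    rotI a b _ _ sw fun z => reflMat_form a b w z (by rw [hw]; exact hwn)
  set R := reflMat a b v * reflMat a b w with hR
  set R' := reflMat a b w * reflMat a b v with hR'
  have e : (R * R) * (R' * R') = 1 := by
    have e1 : R * R' = 1 := by
      rw [hR, hR', Matrix.mul_assoc, ← Matrix.mul_assoc (reflMat a b w), sw, Matrix.one_mul, sv]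
    rw [Matrix.mul_assoc, ← Matrix.mul_assoc R R', e1, Matrix.one_mul, e1]
  have hN : ∀ z, ((R * R) *ᵥ z) ⬝ᵥ nMat a b *ᵥ ((R * R) *ᵥ z) = z ⬝ᵥ nMat a b *ᵥ z := fun z => by
    simp only [hR, ← mulVec_mulVec]
    rw [reflMat_form a b v _ (by rw [hv]; exact one_ne_zero), reflMat_form a b w _ (by rw [hw]; exact hwn),
      reflMat_form a b v _ (by rw [hv]; exact one_ne_zero), reflMat_form a b w _ (by rw [hw]; exact hwn)]
  refine ⟨R * R, R' * R', e, hN, ?_, ?_⟩
  · have hval : ∀ (x x' : Matrix (Fin 2) (Fin 2) F) ex hx, (rotI (m := m) a b x x' ex hx).1.1 =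
        blk3 1 0 0 0 1 0 0 0 x := fun _ _ _ _ => rfl
    have hinv₁ : r₁⁻¹ = r₁ := inv_eq_of_mul_eq_one_right (iso_ext (by
      show blk3 1 0 0 0 1 0 0 0 _ * blk3 1 0 0 0 1 0 0 0 _ = _
      rw [blk3_mul]; simp [sv, blk3_one]))
    have hinv₂ : r₂⁻¹ = r₂ := inv_eq_of_mul_eq_one_right (iso_ext (by
      show blk3 1 0 0 0 1 0 0 0 _ * blk3 1 0 0 0 1 0 0 0 _ = _
      rw [blk3_mul]; simp [sw, blk3_one]))
    have h := comm_mem a b r₁ r₂
    rw [hinv₁, hinv₂] at h
    convert h using 1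
    refine iso_ext ?_
    show blk3 1 0 0 0 1 0 0 0 (R * R) = blk3 1 0 0 0 1 0 0 0 _ * blk3 1 0 0 0 1 0 0 0 _ *
      blk3 1 0 0 0 1 0 0 0 _ * blk3 1 0 0 0 1 0 0 0 _
    rw [blk3_mul, blk3_mul, blk3_mul]
    simp [hR, Matrix.mul_assoc]
  · have key : (R * R - 1).det * (c ^ 2 + a * c + b) ^ 2 = (4 * b - a ^ 2) * (2 * c + a) ^ 2 := by
      simp only [hR, reflMat, hv, hw, det_fin_two, Matrix.mul_apply, Fin.sum_univ_two, Matrix.sub_apply,
        Matrix.smul_apply, smul_eq_mul, vecMulVec_apply, Matrix.one_apply, pMat, nMat, mulVec, dotProduct,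
        Matrix.add_apply, transpose_apply, Matrix.of_apply, v, w]
      simp
      have hwn' : c * (c + a) + b ≠ 0 := fun h => hwn (by linear_combination h)
      field_simp
      ring
    intro h0
    rw [h0, zero_mul] at key
    exact mul_ne_zero hd (pow_ne_zero 2 hc) key.symm

end CfsgLib.Classical.WeilOmega
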