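/-
The spectral decomposition under the centre of the Siegel radical.
-/
import Cfsg.Agent.Lib.Classical.WeilOmega.Gens
import Cfsg.Agent.Lib.Classical.WeilOmega.Heis
import Cfsg.Agent.Lib.Classical.WeilOmega.Alt
import Cfsg.Agent.Lib.Classical.WeilSU.Bound

set_option autoImplicit false

namespace CfsgLib.Classical.WeilOmega

open Matrix Module CfsgLib.LinDeg CfsgLib.Classical.WeilSU

variable {F : Type*} [Field F] {m : ℕ}

/-- The pairing of matrices. -/
def pr (M B : Matrix (Fin m) (Fin m) F) : F := ∑ i, ∑ j, M i j * B i j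

theorem dot_unmat (M B : Matrix (Fin m) (Fin m) F) : unmat M ⬝ᵥ unmat B = pr M B := by
  simp only [dotProduct, unmat, pr]
  rw [← finProdFinEquiv.sum_comp, Fintype.sum_prod_type]
  simp

theorem pr_add (M M' B : Matrix (Fin m) (Fin m) F) : pr (M + M') B = pr M B + pr M' B := by
  simp [pr, add_mul, Finset.sum_add_distrib]

theorem pr_single (i j : Fin m) (c : F) (B : Matrix (Fin m) (Fin m) F) : pr (single i j c) B = c * B i j := by
  simp [pr, single_apply, ite_and]

theorem pr_zero (M : Matrix (Fin m) (Fin m) F) : pr M 0 = 0 := by simp [pr]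

/-- A matrix with a single nonzero column. -/
def col (i : Fin m) (v : Fin 2 → F) : Matrix (Fin 2) (Fin m) F := vecMulVec v (Pi.single i 1)

theorem col_add (i : Fin m) (v w : Fin 2 → F) : col i (v + w) = col i v + col i w := add_vecMulVec v w _

theorem col_zero (i : Fin m) : col i (0 : Fin 2 → F) = 0 := zero_vecMulVec _

theorem col_prod (x y : Fin m) (c v : Fin 2 → F) (N : Matrix (Fin 2) (Fin 2) F) :
    (col x c)ᵀ * N * col y v = single x y (c ⬝ᵥ N *ᵥ v) := by
  rw [col, col, transpose_vecMulVec, vecMulVec_mul, vecMulVec_mul_vecMulVec, dotProduct_mulVec]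
  ext k l
  simp [vecMulVec_apply, single_apply, Pi.single_apply, ite_and, eq_comm]
  split_ifs <;> rfl

variable [Fintype F] {a b : F} (hm : 3 ≤ m) (ψ : AddChar F ℂ) {V : Type*} [AddCommGroup V] [Module ℂ V]
  (ρ : Representation ℂ (Om F m a b) V)

/-- The action of the centre of the radical. -/
def tauZ (v : Fin (m * m) → F) : Module.End ℂ V := ρ (el a b hm 0 (mat v))

/-- The eigenprojection of a character of the centre. -/
noncomputable def eZ (B : Matrix (Fin m) (Fin m) F) : Module.End ℂ V := eigProj ψ (tauZ hm ρ) (unmat B)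

theorem tauZ_add (u v : Fin (m * m) → F) : tauZ hm ρ (u + v) = tauZ hm ρ u * tauZ hm ρ v := by
  rw [tauZ, tauZ, tauZ, ← map_mul, el_mul, add_zero, Matrix.mul_zero, add_zero]
  rfl

theorem tauZ_zero : tauZ hm ρ 0 = 1 := by
  rw [tauZ, show mat (0 : Fin (m * m) → F) = 0 from rfl, el_zero, map_one]

theorem hK : (Fintype.card F : ℂ) ≠ 0 := by exact_mod_cast Fintype.card_ne_zero

theorem el_zero_mul_eZ (M B : Matrix (Fin m) (Fin m) F) :
    ρ (el a b hm 0 M) * eZ hm ψ ρ B = ψ (pr M B) • eZ hm ψ ρ B := by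
  have h := mul_eigProj ψ (tauZ hm ρ) (tauZ_add hm ρ) (unmat M) (unmat B)
  rwa [dot_unmat, tauZ, mat_unmat] at h

theorem el_mul_eZ (w : Matrix (Fin 2) (Fin m) F) (M B : Matrix (Fin m) (Fin m) F) :
    ρ (el a b hm w M) * eZ hm ψ ρ B = eZ hm ψ ρ B * ρ (el a b hm w M) := by
  refine mul_eigProj_of_conj ψ _ Function.bijective_id (fun v => ?_) fun v => rfl
  simp only [tauZ, id]
  rw [← map_mul, ← map_mul, el_mul, el_mul]
  congr 2 <;> simp [add_comm]

theorem le_mul_eZ (g : SpecialLinearGroup (Fin m) F) (B : Matrix (Fin m) (Fin m) F) :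
    ρ (le a b hm g) * eZ hm ψ ρ (g.1ᵀ * B * g.1) = eZ hm ψ ρ B * ρ (le a b hm g) := by
  refine mul_eigProj_of_conj ψ _ (f := fun v => unmat (g.1 * mat v * g.1ᵀ)) ?_ (fun v => ?_) fun v => ?_
  · refine Finite.injective_iff_bijective.1 fun u v h => ?_
    have h1 := congrArg (fun X => (g⁻¹ : SpecialLinearGroup (Fin m) F).1 * mat X *
      (g⁻¹ : SpecialLinearGroup (Fin m) F).1ᵀ) h
    have e : ∀ X : Matrix (Fin m) (Fin m) F, (g⁻¹ : SpecialLinearGroup (Fin m) F).1 * (g.1 * X * g.1ᵀ) *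
        (g⁻¹ : SpecialLinearGroup (Fin m) F).1ᵀ = X := fun X => by
      rw [← Matrix.mul_assoc, ← Matrix.mul_assoc, Matrix.mul_assoc _ g.1ᵀ, ← transpose_mul, ← sl_mul_val,
        inv_mul_cancel, sl_one_val, transpose_one, Matrix.mul_one, Matrix.one_mul]
    simp only [mat_unmat, e] at h1
    rw [← unmat_mat u, ← unmat_mat v, h1]
  · simp only [tauZ, mat_unmat]
    rw [← map_mul, ← map_mul, le_mul_el, Matrix.zero_mul]
  · conv_rhs => rw [← unmat_mat v]
    rw [dot_unmat, dot_unmat]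
    have key : ∀ P Q : Matrix (Fin m) (Fin m) F, pr P Q = (Pᵀ * Q).trace := fun P Q => by
      simp only [pr, Matrix.trace, Matrix.diag_apply, Matrix.mul_apply, transpose_apply]
      rw [Finset.sum_comm]
    rw [key, key, transpose_mul, transpose_mul, transpose_transpose, Matrix.mul_assoc g.1,
      Matrix.trace_mul_comm g.1]
    simp only [Matrix.mul_assoc]

theorem rank_eZ_congr [FiniteDimensional ℂ V] (g : SpecialLinearGroup (Fin m) F) (B : Matrix (Fin m) (Fin m) F) :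
    finrank ℂ (LinearMap.range (eZ hm ψ ρ (g.1ᵀ * B * g.1))) = finrank ℂ (LinearMap.range (eZ hm ψ ρ B)) :=
  finrank_range_of_conj ((Group.isUnit (le a b hm g)).map ρ) (le_mul_eZ hm ψ ρ g B)

theorem eZ_congr_ne (g : SpecialLinearGroup (Fin m) F) {B : Matrix (Fin m) (Fin m) F}
    (h : eZ hm ψ ρ B ≠ 0) : eZ hm ψ ρ (g.1ᵀ * B * g.1) ≠ 0 := by
  intro e
  have h1 := le_mul_eZ hm ψ ρ g B
  rw [e, mul_zero] at h1
  exact h (((Group.isUnit (le a b hm g)).map ρ).mul_left_eq_zero.1 h1.symm)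

variable (hψ : ψ.IsPrimitive)
include hψ

theorem isAlt_of_eZ {B : Matrix (Fin m) (Fin m) F} (h : eZ hm ψ ρ B ≠ 0) : IsAlt B := by
  have key : ∀ M : Matrix (Fin m) (Fin m) F, M - Mᵀ = 0 → ψ (pr M B) = 1 := by
    intro M hM
    have h1 := el_zero_mul_eZ hm ψ ρ M B
    rw [el_congr a b hm (M' := 0) (by rw [hM]; simp), el_zero, map_one, one_mul] at h1
    refine smul_left_injective ℂ h ?_
    simp only [one_smul]
    exact h1.symm
  refine ⟨fun i j => ?_, fun i => ?_⟩
  · rw [eq_neg_iff_add_eq_zero]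
    by_contra hne
    apply hψ hne
    ext c
    have h1 := key (single i j c + single j i c) (by rw [transpose_add, transpose_single, transpose_single]; abel)
    rw [pr_add, pr_single, pr_single] at h1
    show ψ ((B j i + B i j) * c) = (1 : AddChar F ℂ) c
    rw [AddChar.one_apply, ← h1]
    congr 1; ring
  · by_contra hne
    apply hψ hne
    ext c
    have h1 := key (single i i c) (by rw [transpose_single]; simp)
    rw [pr_single, mul_comm] at h1
    show ψ (B i i * c) = (1 : AddChar F ℂ) c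
    rw [AddChar.one_apply, h1]

open _root_.Classical in
theorem eZ_mul (B B' : Matrix (Fin m) (Fin m) F) :
    eZ hm ψ ρ B * eZ hm ψ ρ B' = if B = B' then eZ hm ψ ρ B' else 0 := by
  rw [eZ, eZ, eigProj_mul ψ hψ _ (tauZ_add hm ρ) hK]
  by_cases h : B = B'
  · simp [h]
  · rw [if_neg h, if_neg fun e => h (by rw [← mat_unmat B, e, mat_unmat])]

theorem sum_eZ : ∑ B : Matrix (Fin m) (Fin m) F, eZ hm ψ ρ B = 1 := by
  rw [← sum_eigProj ψ hψ (tauZ hm ρ) (tauZ_zero hm ρ) hK]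
  exact Fintype.sum_bijective unmat
    ⟨fun x y h => by rw [← mat_unmat x, h, mat_unmat], fun v => ⟨mat v, unmat_mat v⟩⟩ _ _ fun B => rfl

variable [FiniteDimensional ℂ V]

theorem sum_rank_eZ_le (S : Finset (Matrix (Fin m) (Fin m) F)) :
    ∑ B ∈ S, finrank ℂ (LinearMap.range (eZ hm ψ ρ B)) ≤ finrank ℂ V := by
  classical
  exact sum_rank_le _ (eZ_mul hm ψ ρ hψ) (sum_eZ hm ψ ρ hψ) S

section Pinned

variable {B : Matrix (Fin m) (Fin m) F} {P : Module.End ℂ V} (hBP : eZ hm ψ ρ B * P = P)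

omit hψ [FiniteDimensional ℂ V] in
include hBP in
theorem central_on (M : Matrix (Fin m) (Fin m) F) : ρ (el a b hm 0 M) * P = ψ (pr M B) • P := by
  rw [← hBP, ← mul_assoc, el_zero_mul_eZ, smul_mul_assoc]

omit hψ [FiniteDimensional ℂ V] in
include hBP in
theorem el_comm_on (hcomm : ∀ w, ρ (el a b hm w 0) * P = P * ρ (el a b hm w 0))
    (w w' : Matrix (Fin 2) (Fin m) F) :
    ρ (el a b hm w 0) * ρ (el a b hm w' 0) * P =
      ψ (pr (w'ᵀ * pMat a b * w) B) • (ρ (el a b hm w' 0) * ρ (el a b hm w 0) * P) := by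
  have h : el a b hm w 0 * el a b hm w' 0 =
      el a b hm 0 (w'ᵀ * pMat a b * w) * (el a b hm w' 0 * el a b hm w 0) := by
    simp only [el_mul, Matrix.mul_zero, add_zero, zero_add]
    rw [add_comm w' w]
    apply el_congr
    simp only [pMat, Matrix.mul_zero, add_zero, zero_add, transpose_add, transpose_mul, transpose_transpose,
      Matrix.add_mul, Matrix.mul_add, Matrix.mul_assoc]
    abel
  rw [← map_mul, h, map_mul, map_mul, mul_assoc]
  have e : ρ (el a b hm w' 0) * ρ (el a b hm w 0) * P = P * (ρ (el a b hm w' 0) * ρ (el a b hm w 0)) := by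
    rw [mul_assoc, hcomm, ← mul_assoc, hcomm, mul_assoc]
  rw [e, ← mul_assoc, central_on hm ψ ρ hBP, smul_mul_assoc]

omit hψ [FiniteDimensional ℂ V] in
include hBP in
theorem el_add_on (hcomm : ∀ w, ρ (el a b hm w 0) * P = P * ρ (el a b hm w 0))
    (w w' : Matrix (Fin 2) (Fin m) F) (h0 : pr (w'ᵀ * nMat a b * w) B = 0) :
    ρ (el a b hm (w + w') 0) * P = ρ (el a b hm w 0) * ρ (el a b hm w' 0) * P := by
  have h : el a b hm w 0 * el a b hm w' 0 = el a b hm 0 (w'ᵀ * nMat a b * w) * el a b hm (w + w') 0 := by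
    simp only [el_mul, Matrix.mul_zero, add_zero, zero_add]
  rw [← map_mul, h, map_mul, mul_assoc, hcomm, ← mul_assoc, central_on hm ψ ρ hBP, h0, AddChar.map_zero_eq_one,
    one_smul]

variable (hab : ∀ z₁ z₂ : F, z₁ ^ 2 + a * z₁ * z₂ + b * z₂ ^ 2 = 0 → z₁ = 0 ∧ z₂ = 0)
include hab

omit hψ [Fintype F] [FiniteDimensional ℂ V] in
theorem pMat_unit [Finite F] : IsUnit (pMat a b).det := by
  rw [isUnit_iff_ne_zero]
  have h : (pMat a b).det = 4 * b - a ^ 2 := by simp [pMat, nMat, det_fin_two]; ring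
  rw [h]
  exact disc_ne_zero a b hab

omit hψ [FiniteDimensional ℂ V] in
theorem pair_scale {i j : Fin m} (hij : B j i ≠ 0) (v c : Fin 2 → F) :
    ((B j i)⁻¹ • ((pMat a b)⁻¹ *ᵥ c)) ⬝ᵥ pMat a b *ᵥ v * B j i = v ⬝ᵥ c := by
  rw [dotProduct_mulVec, ← mulVec_transpose, pMat_symm, mulVec_smul, mulVec_mulVec,
    Matrix.mul_nonsing_inv _ (pMat_unit hab), one_mulVec, smul_dotProduct, smul_eq_mul, dotProduct_comm c]
  field_simp

include hBP in
/-- Two-sided lower bound for a projection inside an eigenspace. -/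
theorem rank_two (hP : P * P = P) (hP0 : P ≠ 0) (hcomm : ∀ w, ρ (el a b hm w 0) * P = P * ρ (el a b hm w 0))
    (hB : IsAlt B) {i j : Fin m} (hij : B j i ≠ 0) : Fintype.card F ^ 2 ≤ finrank ℂ (LinearMap.range P) := by
  refine heis ψ hψ P hP hP0 (fun v => ρ (el a b hm (col i v) 0))
    (fun c => ρ (el a b hm (col j ((B j i)⁻¹ • ((pMat a b)⁻¹ *ᵥ c))) 0))
    ?_ (fun v v' => ?_) (fun v => hcomm _) (fun c => hcomm _) (fun c => (Group.isUnit _).map ρ) fun v c => ?_
  · rw [col_zero, el_zero, map_one, one_mul]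
  · rw [col_add]
    refine el_add_on hm ψ ρ hBP hcomm _ _ ?_
    rw [col_prod, pr_single, hB.2, mul_zero]
  · rw [el_comm_on hm ψ ρ hBP hcomm, col_prod, pr_single, pair_scale hab hij]

include hBP in
/-- The bound for two orthogonal pairs. -/
theorem rank_four (hP : P * P = P) (hP0 : P ≠ 0) (hcomm : ∀ w, ρ (el a b hm w 0) * P = P * ρ (el a b hm w 0))
    (hB : IsAlt B) {i j k l : Fin m} (hd : [i, j, k, l].Nodup) (hij : B i j ≠ 0) (hkl : B k l ≠ 0)
    (hi : ∀ x, x ≠ j → B i x = 0) (hj : ∀ x, x ≠ i → B j x = 0) :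
    Fintype.card F ^ 4 ≤ finrank ℂ (LinearMap.range P) := by
  simp only [List.nodup_cons, List.mem_cons, List.not_mem_nil, or_false, not_or] at hd
  obtain ⟨⟨nij, nik, nil'⟩, ⟨njk, njl⟩, nkl, -⟩ := hd
  have hji : B j i ≠ 0 := by rw [hB.1 i j]; exact neg_ne_zero.2 hij
  have hlk : B l k ≠ 0 := by rw [hB.1 k l]; exact neg_ne_zero.2 hkl
  have z1 : B i k = 0 := hi k (Ne.symm njk)
  have z2 : B k i = 0 := by rw [hB.1 i k, z1, neg_zero]
  have z3 : B j k = 0 := hj k (Ne.symm nik)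
  have z4 : B l i = 0 := by rw [hB.1 i l, hi l (Ne.symm njl), neg_zero]
  let p1 : (Fin 4 → F) → Fin 2 → F := fun v => ![v 0, v 1]
  let p2 : (Fin 4 → F) → Fin 2 → F := fun v => ![v 2, v 3]
  refine heis ψ hψ P hP hP0 (fun v => ρ (el a b hm (col i (p1 v) + col k (p2 v)) 0))
    (fun c => ρ (el a b hm (col j ((B j i)⁻¹ • ((pMat a b)⁻¹ *ᵥ p1 c)) +
      col l ((B l k)⁻¹ • ((pMat a b)⁻¹ *ᵥ p2 c))) 0))
    ?_ (fun v v' => ?_) (fun v => hcomm _) (fun c => hcomm _) (fun c => (Group.isUnit _).map ρ) fun v c => ?_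
  · have e1 : p1 0 = 0 := by funext r; fin_cases r <;> rfl
    have e2 : p2 0 = 0 := by funext r; fin_cases r <;> rfl
    rw [e1, e2, col_zero, col_zero, add_zero, el_zero, map_one, one_mul]
  · have e1 : p1 (v + v') = p1 v + p1 v' := by funext r; fin_cases r <;> rfl
    have e2 : p2 (v + v') = p2 v + p2 v' := by funext r; fin_cases r <;> rfl
    rw [e1, e2, col_add, col_add, add_add_add_comm]
    refine el_add_on hm ψ ρ hBP hcomm _ _ ?_
    simp only [transpose_add, Matrix.add_mul, Matrix.mul_add, col_prod, pr_add, pr_single, hB.2, z1, z2,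
      mul_zero, add_zero]
  · rw [el_comm_on hm ψ ρ hBP hcomm]
    congr 2
    simp only [transpose_add, Matrix.add_mul, Matrix.mul_add, col_prod, pr_add, pr_single, z3, z4,
      mul_zero, add_zero, zero_add]
    rw [pair_scale hab hji, pair_scale hab hlk]
    simp [p1, p2, dotProduct, Fin.sum_univ_two, Fin.sum_univ_four]
    ring

omit hBP in
/-- Every non-trivial eigenspace has dimension at least `q²`. -/
theorem rank_eZ_ge {B : Matrix (Fin m) (Fin m) F} (hB : B ≠ 0) (h : eZ hm ψ ρ B ≠ 0) :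
    Fintype.card F ^ 2 ≤ finrank ℂ (LinearMap.range (eZ hm ψ ρ B)) := by
  classical
  obtain ⟨i, j, hij⟩ : ∃ i j, B j i ≠ 0 := by
    by_contra hc
    push Not at hc
    exact hB (by ext x y; simpa using hc y x)
  have hid : eZ hm ψ ρ B * eZ hm ψ ρ B = eZ hm ψ ρ B := by rw [eZ_mul hm ψ ρ hψ, if_pos rfl]
  exact rank_two hm ψ ρ hψ hid hab hid h (fun w => el_mul_eZ hm ψ ρ w 0 B) (isAlt_of_eZ hm ψ ρ hψ h) hij

omit hBP in
/-- The dichotomy for the non-trivial characters of the centre. -/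
theorem dichotomy : Fintype.card F ^ (2 * m) ≤ finrank ℂ V ∨
    ∀ B, B ≠ 0 → eZ hm ψ ρ B ≠ 0 → ∃ u v, B = wedge u v := by
  classical
  refine or_iff_not_imp_right.2 fun h => ?_
  push Not at h
  obtain ⟨B, hB0, hBE, hBw⟩ := h
  have hBa := isAlt_of_eZ hm ψ ρ hψ hBE
  obtain ⟨g, i, j, k, l, hd, hij, hkl, hi, hj⟩ := (wedge_or_pairs hBa hB0).resolve_left
    (fun ⟨u, v, e⟩ => hBw u v e)
  set B' := g.1ᵀ * B * g.1 with hB'
  have hBE' : eZ hm ψ ρ B' ≠ 0 := eZ_congr_ne hm ψ ρ g hBE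
  have hBa' := isAlt_of_eZ hm ψ ρ hψ hBE'
  have hid : eZ hm ψ ρ B' * eZ hm ψ ρ B' = eZ hm ψ ρ B' := by rw [eZ_mul hm ψ ρ hψ, if_pos rfl]
  have h4 := rank_four hm ψ ρ hψ hid hab hid hBE' (fun w => el_mul_eZ hm ψ ρ w 0 B') hBa' hd hij hkl hi hj
  have hinj := family_injective hij hBa' hi hj
  set f := fun p : {x : Fin m // x ≠ i ∧ x ≠ j} → F × F =>
      (trow i (fun x => if h : x ≠ i ∧ x ≠ j then (p ⟨x, h⟩).1 else 0) (by simp) *
        trow j (fun x => if h : x ≠ i ∧ x ≠ j then (p ⟨x, h⟩).2 else 0) (by simp)).1ᵀ * B' *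
      (trow i (fun x => if h : x ≠ i ∧ x ≠ j then (p ⟨x, h⟩).1 else 0) (by simp) *
        trow j (fun x => if h : x ≠ i ∧ x ≠ j then (p ⟨x, h⟩).2 else 0) (by simp)).1
  refine le_trans ?_ (sum_rank_eZ_le hm ψ ρ hψ (Finset.univ.image f))
  rw [Finset.sum_image fun p _ p' _ e => hinj e]
  refine le_trans ?_ (Finset.sum_le_sum (f := fun _ => Fintype.card F ^ 4) fun p _ => ?_)
  · have hne : i ≠ j := fun e => hij (e ▸ hBa'.2 i)
    have hc : Fintype.card {x : Fin m // x ≠ i ∧ x ≠ j} = m - 2 := by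
      rw [Fintype.card_subtype, show (Finset.univ.filter fun x : Fin m => x ≠ i ∧ x ≠ j) = Finset.univ \ {i, j} by
        ext x; simp, Finset.card_sdiff, Finset.inter_univ, Finset.card_pair hne, Finset.card_univ, Fintype.card_fin]
    rw [Finset.sum_const, Finset.card_univ, Fintype.card_fun, Fintype.card_prod, hc, smul_eq_mul, ← sq, ← pow_mul,
      ← pow_add]
    exact Nat.pow_le_pow_right Fintype.card_pos (by omega)
  · exact h4.trans_eq (rank_eZ_congr hm ψ ρ _ B').symm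

omit hBP in
include hm in
/-- All wedges occur with the same multiplicity. -/
theorem wedge_orbit {u v u' v' : Fin m → F} (h : wedge u v ≠ 0) (h' : wedge u' v' ≠ 0) :
    ∃ g : SpecialLinearGroup (Fin m) F, g.1ᵀ * wedge u v * g.1 = wedge u' v' := by
  let i₀ : Fin m := ⟨0, by omega⟩
  let i₁ : Fin m := ⟨1, by omega⟩
  have h01 : i₀ ≠ i₁ := by simp [i₀, i₁, Fin.ext_iff]
  obtain ⟨g, hg0, hg1⟩ := exists_sl_pair hm h01 (linearIndependent_pair_of_wedge h)
  obtain ⟨k, hk0, hk1⟩ := exists_sl_pair hm h01 (linearIndependent_pair_of_wedge h')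
  refine ⟨⟨((k * g⁻¹ : SpecialLinearGroup (Fin m) F).1)ᵀ, by rw [det_transpose]; exact (k * g⁻¹).2⟩, ?_⟩
  rw [congr_wedge, transpose_transpose]
  have hinv : ∀ (x y : Fin m → F), g.1 *ᵥ x = y → (k * g⁻¹).1 *ᵥ y = k.1 *ᵥ x := fun x y e => by
    rw [← e, mulVec_mulVec, ← sl_mul_val, inv_mul_cancel_right]
  rw [hinv _ _ hg0, hinv _ _ hg1, hk0, hk1]

end Pinned

end CfsgLib.Classical.WeilOmega
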