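/-
The abelian radical of the stabiliser of a singular point.
-/
import Cfsg.Agent.Lib.Classical.WeilOmega.Radical
import Cfsg.Agent.Lib.Perm.Trans.QuadSimple
import Cfsg.Agent.Lib.Perm.Trans.QuadStd
import Cfsg.Agent.Lib.Perm.Trans.QuadTransitive

set_option autoImplicit false

namespace CfsgLib.Classical.WeilOmega

open Matrix Module CfsgLib.LinDeg CfsgLib.Classical.WeilSU CfsgLib.Perm.Trans CfsgLib.Perm.Trans.Quad

variable {F : Type*} [Field F] {m : ℕ} {a b : F}

/-- The base point. -/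
def bpt (i₀ : Fin m) : Idx m 2 → F := vec3 (Pi.single i₀ 1) 0 0

/-- Deletion of the coordinates of the base pair. -/
def red (i₀ : Fin m) : (Idx m 2 → F) →ₗ[F] Idx m 2 → F where
  toFun p := Function.update (Function.update p (.inl (.inl i₀)) 0) (.inl (.inr i₀)) 0
  map_add' p q := by
    funext k
    simp only [Function.update_apply, Pi.add_apply]
    split_ifs <;> simp
  map_smul' c p := by
    funext k
    simp only [Function.update_apply, Pi.smul_apply, RingHom.id_apply]
    split_ifs <;> simp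

theorem red_vec3 (i₀ : Fin m) (x y : Fin m → F) (z : Fin 2 → F) :
    red i₀ (vec3 x y z) = vec3 (Function.update x i₀ 0) (Function.update y i₀ 0) z := by
  funext k
  rcases k with (k | k) | k <;>
    simp only [red, LinearMap.coe_mk, AddHom.coe_mk, vec3, Function.update_apply, Sum.elim_inl, Sum.elim_inr,
      Sum.inl.injEq, Sum.inr.injEq, reduceCtorEq, if_false]

theorem red_bpt (i₀ : Fin m) : red (F := F) i₀ (bpt i₀) = 0 := by
  rw [bpt, red_vec3]
  funext k
  rcases k with (k | k) | k <;> simp [vec3, Function.update_apply, Pi.single_apply]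

theorem red_red (i₀ : Fin m) (p : Idx m 2 → F) : red i₀ (red i₀ p) = red i₀ p := by
  funext k
  simp only [red, LinearMap.coe_mk, AddHom.coe_mk, Function.update_apply]
  split_ifs <;> rfl

theorem pol_bpt (i₀ : Fin m) (p : Idx m 2 → F) :
    QuadraticMap.polar (Cfsg.quadFormMinus m F a b) (bpt i₀) p = p (.inl (.inr i₀)) := by
  obtain ⟨x, y, z, rfl⟩ := exists_vec3 p
  rw [bpt, polar_vec3]
  simp [vec3]

theorem pol_bpt_red (i₀ : Fin m) (p : Idx m 2 → F) :
    QuadraticMap.polar (Cfsg.quadFormMinus m F a b) (bpt i₀) (red i₀ p) = 0 := by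
  rw [pol_bpt]; simp [red]

theorem q_bpt (i₀ : Fin m) : Cfsg.quadFormMinus m F a b (bpt i₀) = 0 := by
  rw [bpt, qf_vec3]; simp [dotProduct]

theorem eq_smul_bpt (i₀ : Fin m) {p : Idx m 2 → F} (hr : red i₀ p = 0) (hp : p (.inl (.inr i₀)) = 0) :
    p = p (.inl (.inl i₀)) • bpt i₀ := by
  obtain ⟨x, y, z, rfl⟩ := exists_vec3 p
  rw [red_vec3] at hr
  obtain ⟨h1, h2, h3⟩ := vec3_inj (hr.trans (show (0 : Idx m 2 → F) = vec3 0 0 0 by
    funext k; rcases k with (k | k) | k <;> rfl))
  have hy : y i₀ = 0 := hp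
  funext k
  rcases k with (k | k) | k
  · rcases eq_or_ne k i₀ with rfl | hk
    · simp [bpt, vec3]
    · simpa [bpt, vec3, hk] using congrFun h1 k
  · rcases eq_or_ne k i₀ with rfl | hk
    · simp [bpt, vec3, hy]
    · simpa [bpt, vec3, hk] using congrFun h2 k
  · simpa [bpt, vec3] using congrFun h3 k

theorem sub_red (i₀ : Fin m) {p : Idx m 2 → F} (hp : p (.inl (.inr i₀)) = 0) :
    red i₀ p + p (.inl (.inl i₀)) • bpt i₀ = p := by
  have h := eq_smul_bpt i₀ (p := p - red i₀ p) (by rw [map_sub, red_red, sub_self]) (by simp [hp, red])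
  have e : (p - red i₀ p) (.inl (.inl i₀)) = p (.inl (.inl i₀)) := by
    simp [red, Function.update_apply]
  rw [e] at h
  rw [← h]
  abel

section Action

variable [Fintype F] (hab : ∀ z₁ z₂ : F, z₁ ^ 2 + a * z₁ * z₂ + b * z₂ ^ 2 = 0 → z₁ = 0 ∧ z₂ = 0) (hm : 3 ≤ m)
include hab hm

omit hm in
theorem qnd : Cfsg.Geo.IsNondegenerateQuadraticForm (Cfsg.quadFormMinus m F a b) := quadFormMinus_nd a b hab

omit hab [Fintype F] [Field F] in
theorem five_le : 5 ≤ Fintype.card (Idx m 2) := by simp; omega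

theorem exists_E_red (i₀ : Fin m) (p : Idx m 2 → F) :
    ∃ g : Om F m a b, IsE (Cfsg.quadFormMinus m F a b) (bpt i₀) (red i₀ p) (omv g) :=
  exists_omega_E (qnd hab) (five_le hm) (q_bpt i₀) (pol_bpt_red i₀ p)

/-- The elements of the radical of the point stabiliser. -/
noncomputable def pel (i₀ : Fin m) (p : Idx m 2 → F) : Om F m a b := (exists_E_red hab hm i₀ p).choose

theorem pel_spec (i₀ : Fin m) (p : Idx m 2 → F) :
    IsE (Cfsg.quadFormMinus m F a b) (bpt i₀) (red i₀ p) (omv (pel hab hm i₀ p)) :=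
  (exists_E_red hab hm i₀ p).choose_spec

theorem pel_unique (i₀ : Fin m) {p : Idx m 2 → F} {g : Om F m a b}
    (h : IsE (Cfsg.quadFormMinus m F a b) (bpt i₀) (red i₀ p) (omv g)) : pel hab hm i₀ p = g :=
  omv_injective ((pel_spec hab hm i₀ p).unique h)

theorem pel_add (i₀ : Fin m) (p q : Idx m 2 → F) :
    pel hab hm i₀ (p + q) = pel hab hm i₀ p * pel hab hm i₀ q := by
  refine pel_unique hab hm i₀ ?_
  rw [map_add, show omv (pel hab hm i₀ p * pel hab hm i₀ q) = omv (pel hab hm i₀ p) * omv (pel hab hm i₀ q) from rfl]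
  exact (pel_spec hab hm i₀ p).mul (qnd hab) (q_bpt i₀) (pol_bpt_red i₀ p) (pol_bpt_red i₀ q) (pel_spec hab hm i₀ q)

theorem pel_zero (i₀ : Fin m) : pel hab hm i₀ 0 = 1 := by
  refine pel_unique hab hm i₀ ?_
  rw [map_zero, ← zero_smul F (bpt i₀)]
  exact IsE.one (qnd hab) (q_bpt i₀) 0

theorem pel_el_z (i₀ : Fin m) {α : Fin m → F} (hα : α i₀ = 0) :
    pel hab hm i₀ (vec3 α 0 0) = el a b hm 0 (vecMulVec α (Pi.single i₀ 1)) := by
  refine pel_unique hab hm i₀ fun v => ?_
  obtain ⟨x, y, z, rfl⟩ := exists_vec3 v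
  show elMat a b 0 _ *ᵥ vec3 x y z = _
  rw [red_vec3, show Function.update α i₀ 0 = α by rw [← hα, Function.update_eq_self],
    show Function.update (0 : Fin m → F) i₀ 0 = 0 from Function.update_eq_self i₀ (0 : Fin m → F), bpt,
    polar_vec3, polar_vec3, qf_vec3, elMat, blk3_mulVec]
  funext k
  rcases k with (k | k) | k <;>
    simp [vec3, aBlk, sub_mulVec, transpose_vecMulVec, vecMulVec_mulVec, nMat_form, Pi.single_apply,
      dotProduct_comm α]
  ring

theorem pel_el_col (i₀ : Fin m) (ζ : Fin 2 → F) :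
    pel hab hm i₀ (vec3 0 0 ζ) = el a b hm (col i₀ ζ) 0 := by
  refine pel_unique hab hm i₀ fun v => ?_
  obtain ⟨x, y, z, rfl⟩ := exists_vec3 v
  show elMat a b (col i₀ ζ) 0 *ᵥ vec3 x y z = _
  rw [red_vec3, show Function.update (0 : Fin m → F) i₀ 0 = 0 from Function.update_eq_self i₀ (0 : Fin m → F), bpt,
    polar_vec3, polar_vec3, qf_vec3, elMat, blk3_mulVec]
  funext k
  rcases k with (k | k) | k
  · simp only [aBlk, transpose_zero, sub_zero, zero_sub, neg_mulVec, ← mulVec_mulVec, col, transpose_vecMulVec,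
      vecMulVec_mulVec]
    simp [vec3, Pi.single_apply]
    split_ifs <;> simp [mulVec, dotProduct, pMat, nMat, Fin.sum_univ_two, vecHead, vecTail] <;> ring
  · simp [vec3]
  · simp [vec3, col, vecMulVec_mulVec]
    ring

theorem pel_le (i₀ : Fin m) {η : Fin m → F} (hη : η i₀ = 0) :
    pel hab hm i₀ (vec3 0 η 0) = le a b hm (trow i₀ (-η) (by simp [hη])) := by
  refine pel_unique hab hm i₀ fun v => ?_
  obtain ⟨x, y, z, rfl⟩ := exists_vec3 v
  set g := trow i₀ (-η) (by simp [hη]) with hg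
  show blk3 g.1 0 0 0 ((SpecialLinearGroup.toGL g)⁻¹).1ᵀ 0 0 0 1 *ᵥ vec3 x y z = _
  have hinv : ((SpecialLinearGroup.toGL g)⁻¹).1 = (trow i₀ η hη).1 := by
    rw [← map_inv, show g⁻¹ = trow i₀ η hη from inv_eq_of_mul_eq_one_right (Subtype.ext (by
      show ((1 : Matrix (Fin m) (Fin m) F) + vecMulVec (Pi.single i₀ 1) (-η)) *
        ((1 : Matrix (Fin m) (Fin m) F) + vecMulVec (Pi.single i₀ 1) η) = 1
      rw [Matrix.add_mul, Matrix.mul_add, Matrix.mul_add, Matrix.mul_one, Matrix.one_mul, Matrix.mul_one,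
        vecMulVec_mul_vecMulVec, vecMulVec_neg]
      simp [hη]))]
    rfl
  rw [hinv, red_vec3, show Function.update η i₀ 0 = η by rw [← hη, Function.update_eq_self],
    show Function.update (0 : Fin m → F) i₀ 0 = 0 from Function.update_eq_self i₀ (0 : Fin m → F), bpt,
    polar_vec3, polar_vec3, qf_vec3, blk3_mulVec]
  funext k
  rcases k with (k | k) | k <;>
    simp [hg, trow, vec3, add_mulVec, transpose_vecMulVec, vecMulVec_mulVec, vecMulVec_neg, neg_mulVec,
      Pi.single_apply, nMat_form, dotProduct_comm η]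
  ring

variable (ψ : AddChar F ℂ) {V : Type*} [AddCommGroup V] [Module ℂ V] (ρ : Representation ℂ (Om F m a b) V)

omit hab hm in
/-- Enumeration of the coordinates. -/
noncomputable def enum : (Idx m 2 → F) ≃ₗ[F] (Fin (Fintype.card (Idx m 2)) → F) :=
  LinearEquiv.funCongrLeft F F (Fintype.equivFin (Idx m 2)).symm

omit hab hm in
theorem dot_enum (p q : Idx m 2 → F) : enum p ⬝ᵥ enum q = p ⬝ᵥ q :=
  (Fintype.equivFin (Idx m 2)).symm.sum_comp fun k => p k * q k

/-- The action of the radical of the point stabiliser. -/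
noncomputable def tauU (i₀ : Fin m) (v : Fin (Fintype.card (Idx m 2)) → F) : Module.End ℂ V :=
  ρ (pel hab hm i₀ (enum.symm v))

omit hab hm [Fintype F] in
/-- The dual of a vector under the polar form. -/
def dual (a b : F) (p : Idx m 2 → F) : Idx m 2 → F :=
  vec3 (fun i => p (.inl (.inr i))) (fun i => p (.inl (.inl i))) (pMat a b *ᵥ fun i => p (.inr i))

omit hab hm [Fintype F] in
theorem dot_dual (v p : Idx m 2 → F) :
    v ⬝ᵥ dual a b p = QuadraticMap.polar (Cfsg.quadFormMinus m F a b) v p := by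
  obtain ⟨x, y, z, rfl⟩ := exists_vec3 v
  obtain ⟨x', y', z', rfl⟩ := exists_vec3 p
  rw [polar_vec3]
  simp [dual, vec3, dotProduct, Fintype.sum_sum_type]

/-- The eigenprojections of the radical of the point stabiliser. -/
noncomputable def eU (i₀ : Fin m) (p : Idx m 2 → F) : Module.End ℂ V :=
  eigProj ψ (tauU hab hm ρ i₀) (enum (dual a b (red i₀ p)))

theorem tauU_add (i₀ : Fin m) (u v : Fin (Fintype.card (Idx m 2)) → F) :
    tauU hab hm ρ i₀ (u + v) = tauU hab hm ρ i₀ u * tauU hab hm ρ i₀ v := by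
  rw [tauU, tauU, tauU, ← map_mul, map_add, pel_add]

theorem tauU_zero (i₀ : Fin m) : tauU hab hm ρ i₀ 0 = 1 := by rw [tauU, map_zero, pel_zero, map_one]

omit hab hm in
theorem pol_red_left (i₀ : Fin m) (p q : Idx m 2 → F) :
    QuadraticMap.polar (Cfsg.quadFormMinus m F a b) p (red i₀ q) =
      QuadraticMap.polar (Cfsg.quadFormMinus m F a b) (red i₀ p) (red i₀ q) := by
  obtain ⟨x, y, z, rfl⟩ := exists_vec3 p
  obtain ⟨x', y', z', rfl⟩ := exists_vec3 q
  rw [red_vec3, red_vec3, polar_vec3, polar_vec3]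
  have h : ∀ u w : Fin m → F, u ⬝ᵥ Function.update w i₀ 0 = Function.update u i₀ 0 ⬝ᵥ Function.update w i₀ 0 :=
    fun u w => Finset.sum_congr rfl fun k _ => by
      rcases eq_or_ne k i₀ with rfl | hk <;> simp [*]
  rw [h x, h y]

theorem pel_mul_eU (i₀ : Fin m) (v p : Idx m 2 → F) :
    ρ (pel hab hm i₀ v) * eU hab hm ψ ρ i₀ p =
      ψ (QuadraticMap.polar (Cfsg.quadFormMinus m F a b) v (red i₀ p)) • eU hab hm ψ ρ i₀ p := by
  have h := mul_eigProj ψ _ (tauU_add hab hm ρ i₀) (enum v) (enum (dual a b (red i₀ p)))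
  rw [dot_enum, dot_dual, tauU, LinearEquiv.symm_apply_apply] at h
  exact h

theorem conj_eU (i₀ : Fin m) {g : Om F m a b} (hg : (omv g : Matrix _ _ F) *ᵥ bpt i₀ = bpt i₀)
    {p p' : Idx m 2 → F} (hp : red i₀ ((omv g : Matrix _ _ F) *ᵥ red i₀ p) = red i₀ p') :
    ρ g * eU hab hm ψ ρ i₀ p = eU hab hm ψ ρ i₀ p' * ρ g := by
  set Q := Cfsg.quadFormMinus m F a b with hQ
  set G : (Idx m 2 → F) →ₗ[F] (Idx m 2 → F) := Matrix.mulVecLin (omv g : Matrix _ _ F) with hG
  have hG' : ∀ v, G v = (omv g : Matrix _ _ F) *ᵥ v := fun v => rfl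
  have hy : ∀ v, (G (red i₀ v)) (.inl (.inr i₀)) = 0 := fun v => by
    rw [hG', ← pol_bpt (a := a) (b := b) i₀ ((omv g : Matrix _ _ F) *ᵥ red i₀ v)]
    conv_lhs => rw [← hg, iso_pol (omv_iso g), pol_bpt_red]
  let f : (Idx m 2 → F) →ₗ[F] (Idx m 2 → F) := (red i₀).comp (G.comp (red i₀)) + (LinearMap.id - red i₀)
  have hf1 : ∀ v, red i₀ (f v) = red i₀ (G (red i₀ v)) := fun v => by
    simp [f, red_red, map_sub]
  have hinj : Function.Injective f := by
    rw [injective_iff_map_eq_zero]
    intro v hv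
    have h1 : red i₀ (G (red i₀ v)) = 0 := by rw [← hf1, hv, map_zero]
    have h2 : v = red i₀ v := by
      have h3 : red i₀ (G (red i₀ v)) + (v - red i₀ v) = 0 := hv
      rw [h1, zero_add, sub_eq_zero] at h3
      exact h3
    have h4 := eq_smul_bpt i₀ h1 (hy v)
    have h5 : G (red i₀ v - G (red i₀ v) (.inl (.inl i₀)) • bpt i₀) = 0 := by
      rw [map_sub, map_smul, hG' (bpt i₀), hg, ← h4, sub_self]
    have h6 := gl_mulVec_eq_zero.1 h5
    have h7 := congrArg (red i₀) h6
    rw [map_sub, map_smul, red_bpt, smul_zero, sub_zero, red_red, map_zero] at h7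
    rw [h2, h7]
  refine mul_eigProj_of_conj ψ _ (f := fun v => enum (f (enum.symm v))) ?_ (fun v => ?_) fun v => ?_
  · exact Finite.injective_iff_bijective.1 (enum.injective.comp (hinj.comp enum.symm.injective))
  · simp only [tauU, LinearEquiv.symm_apply_apply]
    rw [← map_mul, ← map_mul]
    congr 1
    set u := enum.symm v
    have key : pel hab hm i₀ (f u) = g * pel hab hm i₀ u * g⁻¹ := by
      refine pel_unique hab hm i₀ ?_
      rw [hf1, show omv (g * pel hab hm i₀ u * g⁻¹) = omv g * omv (pel hab hm i₀ u) * (omv g)⁻¹ from rfl]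
      have h := (pel_spec hab hm i₀ u).conj (k := omv g) (omv_iso g)
      rw [hg, ← hG'] at h
      have hsr := sub_red i₀ (hy u)
      rw [← hsr] at h
      intro x
      rw [h x, qadd (qnd hab), qsmul (qnd hab), q_bpt, psmul_right (qnd hab),
        pcomm (red i₀ (G (red i₀ u))) (bpt i₀), pol_bpt_red, padd_right (qnd hab), psmul_right (qnd hab)]
      module
    rw [key, inv_mul_cancel_right]
  · conv_rhs => rw [← enum.apply_symm_apply v]
    rw [dot_enum, dot_enum, dot_dual, dot_dual, pol_red_left i₀ (f (enum.symm v)) p', hf1, ← hp,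
      ← pol_red_left i₀ (G (red i₀ (enum.symm v))) ((omv g : Matrix _ _ F) *ᵥ red i₀ p),
      pol_red_left i₀ (enum.symm v) p]
    have h1 := sub_red i₀ (hy p)
    have h2 : red i₀ (G (red i₀ p)) = G (red i₀ p) - G (red i₀ p) (.inl (.inl i₀)) • bpt i₀ :=
      eq_sub_of_add_eq h1
    rw [← hG', h2, psub_right (qnd hab), psmul_right (qnd hab), pcomm _ (bpt i₀), pol_bpt, hy, mul_zero, sub_zero,
      hG', hG', iso_pol (omv_iso g)]

theorem rank_eU_conj [FiniteDimensional ℂ V] (i₀ : Fin m) {g : Om F m a b}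
    (hg : (omv g : Matrix _ _ F) *ᵥ bpt i₀ = bpt i₀)
    {p p' : Idx m 2 → F} (hp : red i₀ ((omv g : Matrix _ _ F) *ᵥ red i₀ p) = red i₀ p') :
    finrank ℂ (LinearMap.range (eU hab hm ψ ρ i₀ p)) = finrank ℂ (LinearMap.range (eU hab hm ψ ρ i₀ p')) :=
  finrank_range_of_conj ((Group.isUnit g).map ρ) (conj_eU hab hm ψ ρ i₀ hg hp)

theorem eU_mul (hψ : ψ.IsPrimitive) (i₀ : Fin m) {p p' : Idx m 2 → F} (h : red i₀ p ≠ red i₀ p') :
    eU hab hm ψ ρ i₀ p * eU hab hm ψ ρ i₀ p' = 0 := by
  rw [eU, eU, eigProj_mul ψ hψ _ (tauU_add hab hm ρ i₀) hK, if_neg]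
  intro e
  apply h
  have e' := enum.injective e
  funext k
  rcases k with (k | k) | k
  · exact congrFun e' (.inl (.inr k))
  · exact congrFun e' (.inl (.inl k))
  · have e2 : pMat a b *ᵥ (fun i => red i₀ p (.inr i)) = pMat a b *ᵥ fun i => red i₀ p' (.inr i) :=
      funext fun i => congrFun e' (.inr i)
    exact congrFun (mulVec_injective_iff_isUnit.2 ((isUnit_iff_isUnit_det _).2 (pMat_unit hab)) e2) k

theorem sum_rank_eU_le [FiniteDimensional ℂ V] (hψ : ψ.IsPrimitive) (i₀ : Fin m) {κ : Type*} [Fintype κ]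
    (f : κ → Idx m 2 → F) (hf : Function.Injective fun k => red i₀ (f k)) :
    ∑ k, finrank ℂ (LinearMap.range (eU hab hm ψ ρ i₀ (f k))) ≤ finrank ℂ V := by
  classical
  have hinj : Function.Injective fun k => enum (dual a b (red i₀ (f k))) := by
    intro k k' e
    apply hf
    have e' := enum.injective e
    funext j
    rcases j with (j | j) | j
    · exact congrFun e' (.inl (.inr j))
    · exact congrFun e' (.inl (.inl j))
    · have e2 : pMat a b *ᵥ (fun i => red i₀ (f k) (.inr i)) = pMat a b *ᵥ fun i => red i₀ (f k') (.inr i) :=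
        funext fun i => congrFun e' (.inr i)
      exact congrFun (mulVec_injective_iff_isUnit.2 ((isUnit_iff_isUnit_det _).2 (pMat_unit hab)) e2) j
  have h := sum_rank_le (eigProj ψ (tauU hab hm ρ i₀)) (eigProj_mul ψ hψ _ (tauU_add hab hm ρ i₀) hK)
    (sum_eigProj ψ hψ _ (tauU_zero hab hm ρ i₀) hK) (Finset.univ.map ⟨_, hinj⟩)
  rwa [Finset.sum_map] at h

theorem pel_eq_one_of_eU (hψ : ψ.IsPrimitive) (i₀ : Fin m)
    (h : ∀ p, red i₀ p ≠ 0 → eU hab hm ψ ρ i₀ p = 0) (v : Idx m 2 → F) : ρ (pel hab hm i₀ v) = 1 := by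
  rw [show pel hab hm i₀ v = pel hab hm i₀ (enum.symm (enum v)) by rw [LinearEquiv.symm_apply_apply]]
  show tauU hab hm ρ i₀ (enum v) = 1
  set τ := tauU hab hm ρ i₀
  rw [eq_sum_eigProj ψ hψ τ (tauU_zero hab hm ρ i₀) (tauU_add hab hm ρ i₀) hK]
  refine Eq.trans (Finset.sum_congr rfl fun w _ => ?_) (sum_eigProj ψ hψ τ (tauU_zero hab hm ρ i₀) hK)
  by_cases hw : eigProj ψ τ w = 0
  · rw [hw, smul_zero]
  · -- an occurring character is the dual of a reduced vector
    have hP : Function.Surjective (pMat a b).mulVec :=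
      mulVec_surjective_iff_isUnit.2 ((isUnit_iff_isUnit_det _).2 (pMat_unit hab))
    obtain ⟨z, hz⟩ := hP fun i => enum.symm w (.inr i)
    set p : Idx m 2 → F := vec3 (fun i => enum.symm w (.inl (.inr i))) (fun i => enum.symm w (.inl (.inl i))) z
    have hred : enum.symm w = dual a b (red i₀ p) := by
      have hdead : ∀ u, red i₀ u = 0 → u ⬝ᵥ enum.symm w = 0 := by
        intro u hu
        by_contra hne
        apply hψ hne
        ext c
        have h1 := mul_eigProj ψ τ (tauU_add hab hm ρ i₀) (enum (c • u)) w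
        have e1 : τ (enum (c • u)) = 1 := by
          show ρ _ = 1
          rw [LinearEquiv.symm_apply_apply, show pel hab hm i₀ (c • u) = 1 by
            refine pel_unique hab hm i₀ ?_
            rw [map_smul, hu, smul_zero, ← zero_smul F (bpt i₀)]
            exact IsE.one (qnd hab) (q_bpt i₀) 0, map_one]
        rw [e1, one_mul] at h1
        have h3 : ψ (enum (c • u) ⬝ᵥ w) = 1 := by
          refine smul_left_injective ℂ hw ?_
          simp only [one_smul]
          exact h1.symm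
        show ψ (u ⬝ᵥ enum.symm w * c) = (1 : AddChar F ℂ) c
        rw [AddChar.one_apply, ← h3]
        congr 1
        conv_rhs => rw [← enum.apply_symm_apply w, dot_enum, smul_dotProduct, smul_eq_mul, mul_comm]
      have d1 := hdead (Pi.single (.inl (.inl i₀)) 1) (by
        funext k
        simp only [red, LinearMap.coe_mk, AddHom.coe_mk, Function.update_apply, Pi.single_apply, Pi.zero_apply]
        split_ifs <;> simp_all)
      have d2 := hdead (Pi.single (.inl (.inr i₀)) 1) (by
        funext k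
        simp only [red, LinearMap.coe_mk, AddHom.coe_mk, Function.update_apply, Pi.single_apply, Pi.zero_apply]
        split_ifs <;> simp_all)
      simp only [single_dotProduct, one_mul] at d1 d2
      rw [red_vec3]
      funext k
      rcases k with (k | k) | k
      · rcases eq_or_ne k i₀ with rfl | hk
        · simp only [dual, vec3, Sum.elim_inl, Sum.elim_inr, Function.update_self, d1]
        · simp only [dual, vec3, p, Sum.elim_inl, Sum.elim_inr, Function.update_of_ne hk]
      · rcases eq_or_ne k i₀ with rfl | hk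
        · simp only [dual, vec3, Sum.elim_inl, Sum.elim_inr, Function.update_self, d2]
        · simp only [dual, vec3, p, Sum.elim_inl, Sum.elim_inr, Function.update_of_ne hk]
      · simp only [dual, vec3, Sum.elim_inr]
        exact (congrFun hz k).symm
    have hE : eU hab hm ψ ρ i₀ p ≠ 0 := by
      rw [eU, ← hred, LinearEquiv.apply_symm_apply]; exact hw
    have h0 : red i₀ p = 0 := by
      by_contra hne
      exact hE (h p hne)
    have hw0 : w = 0 := by
      rw [← enum.apply_symm_apply w, hred, h0]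
      have : dual a b (0 : Idx m 2 → F) = 0 := by
        funext k
        rcases k with (k | k) | k
        · rfl
        · rfl
        · show (pMat a b *ᵥ (0 : Fin 2 → F)) k = 0
          rw [mulVec_zero]; rfl
      rw [this, map_zero]
    rw [hw0, dotProduct_zero, AddChar.map_zero_eq_one, one_smul]

end Action

end CfsgLib.Classical.WeilOmega
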