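/-
A representation with few dimensions in which the Levi factor is trivial on the fixed space of the radical is trivial.
-/
import Cfsg.Agent.Lib.Classical.WeilOmega.Point

set_option autoImplicit false

namespace CfsgLib.Classical.WeilOmega

open Matrix Module CfsgLib.LinDeg CfsgLib.Classical.WeilSU CfsgLib.Perm.Trans CfsgLib.Perm.Trans.Quad

variable {F : Type*} [Field F] [Fintype F] {m : ℕ} {a b : F}

theorem pair_le {V : Type*} [AddCommGroup V] [Module ℂ V] [FiniteDimensional ℂ V] {E P₁ P₂ : Module.End ℂ V}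
    (h₁ : P₁ * P₁ = P₁) (h₂ : P₂ * P₂ = P₂) (h12 : P₁ * P₂ = 0) (h21 : P₂ * P₁ = 0)
    (e₁ : E * P₁ = P₁) (e₂ : E * P₂ = P₂) :
    finrank ℂ (LinearMap.range P₁) + finrank ℂ (LinearMap.range P₂) ≤ finrank ℂ (LinearMap.range E) := by
  classical
  have hfix : ∀ {P : Module.End ℂ V}, P * P = P → ∀ {x}, x ∈ LinearMap.range P → P x = x := by
    rintro P hP _ ⟨y, rfl⟩
    rw [← Module.End.mul_apply, hP]
  have hmem : ∀ {P : Module.End ℂ V}, E * P = P → ∀ {x}, x ∈ LinearMap.range P → x ∈ LinearMap.range E := by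
    rintro P hP _ ⟨y, rfl⟩
    exact ⟨P y, by rw [← Module.End.mul_apply, hP]⟩
  have hdis : LinearMap.range P₁ ⊓ LinearMap.range P₂ = ⊥ := by
    rw [eq_bot_iff]
    rintro x ⟨hx1, hx2⟩
    rw [Submodule.mem_bot, ← hfix h₁ hx1, ← hfix h₂ hx2, ← Module.End.mul_apply, h12, LinearMap.zero_apply]
  have h := Submodule.finrank_sup_add_finrank_inf_eq (LinearMap.range P₁) (LinearMap.range P₂)
  rw [hdis, finrank_bot, add_zero] at h
  rw [← h]
  exact Submodule.finrank_mono (sup_le (fun x hx => hmem e₁ hx) fun x hx => hmem e₂ hx)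

section Orbits

omit [Fintype F] in
/-- Transvections move a vector without disturbing a coordinate vector or its functional. -/
theorem exists_fix_move (hm : 3 ≤ m) (i₀ : Fin m) {u w : Fin m → F} (hu : u ≠ 0) (hw : w ≠ 0) (hu0 : u i₀ = 0)
    (hw0 : w i₀ = 0) :
    ∃ h : SpecialLinearGroup (Fin m) F, h.1 *ᵥ u = w ∧ h.1 *ᵥ Pi.single i₀ 1 = Pi.single i₀ 1 ∧
      ∀ v, (h.1 *ᵥ v) i₀ = v i₀ := by
  classical
  set e₀ : Fin m → F := Pi.single i₀ 1 with he₀
  have step : ∀ {x y : Fin m → F}, x i₀ = 0 → y i₀ = 0 → x ∉ Submodule.span F {y} → y ≠ 0 →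
      ∃ h : SpecialLinearGroup (Fin m) F, h.1 *ᵥ x = y ∧ h.1 *ᵥ e₀ = e₀ ∧ ∀ v, (h.1 *ᵥ v) i₀ = v i₀ := by
    intro x y hx hy hxy hy0
    obtain ⟨φ, hφ1, hφW⟩ := CfsgLib.Perm.Asch.exists_dual (Submodule.span F {e₀, y - x}) (x := x) (by
      intro h
      rw [Submodule.mem_span_pair] at h
      obtain ⟨s, t, hst⟩ := h
      have h0 := congrFun hst i₀
      simp [he₀, hx, hy] at h0
      rw [h0, zero_smul, zero_add] at hst
      by_cases ht : 1 + t = 0
      · apply hy0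
        rw [eq_neg_of_add_eq_zero_right ht] at hst
        calc y = -((-1 : F) • (y - x)) + x := by module
          _ = 0 := by rw [hst]; abel
      · apply hxy
        refine Submodule.mem_span_singleton.2 ⟨(1 + t)⁻¹ * t, ?_⟩
        have e : t • y = (1 + t) • x := by linear_combination (norm := module) hst
        rw [mul_smul, e, smul_smul, inv_mul_cancel₀ ht, one_smul])
    have h0 : φ ⬝ᵥ (y - x) = 0 := hφW _ (Submodule.subset_span (by simp))
    refine ⟨⟨(1 : Matrix (Fin m) (Fin m) F) + vecMulVec (y - x) φ, by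
      rw [show vecMulVec (y - x) φ = replicateCol Unit (y - x) * replicateRow Unit φ from vecMulVec_eq Unit _ _,
        det_one_add_replicateCol_mul_replicateRow, h0, add_zero]⟩, ?_, ?_, fun v => ?_⟩
    · show ((1 : Matrix (Fin m) (Fin m) F) + vecMulVec (y - x) φ) *ᵥ x = y
      rw [add_mulVec, one_mulVec, vecMulVec_mulVec, hφ1]
      simp
    · show ((1 : Matrix (Fin m) (Fin m) F) + vecMulVec (y - x) φ) *ᵥ e₀ = e₀
      rw [add_mulVec, one_mulVec, vecMulVec_mulVec, hφW e₀ (Submodule.subset_span (by simp))]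
      simp
    · show (((1 : Matrix (Fin m) (Fin m) F) + vecMulVec (y - x) φ) *ᵥ v) i₀ = v i₀
      rw [add_mulVec, one_mulVec, vecMulVec_mulVec]
      simp [hx, hy]
  by_cases huw : u ∈ Submodule.span F {w}
  · obtain ⟨c, hc⟩ := Submodule.mem_span_singleton.1 huw
    obtain ⟨k, hk⟩ : ∃ k, w k ≠ 0 := Function.ne_iff.1 hw
    have hk0 : k ≠ i₀ := fun e => hk (e ▸ hw0)
    obtain ⟨j, hij, hkj⟩ := exists_third hm i₀ k
    set z : Fin m → F := Pi.single j 1 with hz
    have hzw : z ∉ Submodule.span F {w} := by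
      rw [Submodule.mem_span_singleton]
      rintro ⟨d, hd⟩
      have h1 := congrFun hd k
      simp [hz, hkj] at h1
      rcases h1 with rfl | h1
      · simpa [hz] using congrFun hd j
      · exact hk h1
    have hzz : z i₀ = 0 := by simp [hz, hij]
    have huz : u ∉ Submodule.span F {z} := by
      rw [Submodule.mem_span_singleton]
      rintro ⟨d, hd⟩
      have h1 := congrFun hd k
      rw [← hc] at h1
      simp [hz, hkj] at h1
      rcases h1 with rfl | h1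
      · exact hu (by rw [← hc, zero_smul])
      · exact hk h1
    have hz0 : z ≠ 0 := by simp [hz]
    obtain ⟨h₁, a1, a2, a3⟩ := step hu0 hzz huz hz0
    obtain ⟨h₂, b1, b2, b3⟩ := step hzz hw0 hzw hw
    exact ⟨h₂ * h₁, by rw [sl_mul_val, ← mulVec_mulVec, a1, b1], by rw [sl_mul_val, ← mulVec_mulVec, a2, b2],
      fun v => by rw [sl_mul_val, ← mulVec_mulVec, b3, a3]⟩
  · exact step hu0 hw0 huw hw

/-- Conjugacy of characters of the point radical. -/
def PConj (a b : F) (m : ℕ) (i₀ : Fin m) (p p' : Idx m 2 → F) : Prop :=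
  ∃ g : Om F m a b, (omv g : Matrix _ _ F) *ᵥ bpt i₀ = bpt i₀ ∧
    red i₀ ((omv g : Matrix _ _ F) *ᵥ red i₀ p) = red i₀ p'

variable (hab : ∀ z₁ z₂ : F, z₁ ^ 2 + a * z₁ * z₂ + b * z₂ ^ 2 = 0 → z₁ = 0 ∧ z₂ = 0) (hm : 3 ≤ m) (i₀ : Fin m)
include hab hm

omit [Fintype F] hab in
theorem le_bpt {h : SpecialLinearGroup (Fin m) F} (he : h.1 *ᵥ Pi.single i₀ 1 = Pi.single i₀ 1) :
    (omv (le a b hm h) : Matrix _ _ F) *ᵥ bpt i₀ = bpt i₀ := by
  show blk3 h.1 0 0 0 ((SpecialLinearGroup.toGL h)⁻¹).1ᵀ 0 0 0 1 *ᵥ _ = _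
  rw [bpt, blk3_mulVec]
  simp only [he, zero_mulVec, mulVec_zero, add_zero, zero_add]

omit [Fintype F] hab in
theorem el_bpt (w : Matrix (Fin 2) (Fin m) F) (M : Matrix (Fin m) (Fin m) F) :
    (omv (el a b hm w M) : Matrix _ _ F) *ᵥ bpt i₀ = bpt i₀ := by
  show elMat a b w M *ᵥ _ = _
  rw [bpt, elMat, blk3_mulVec]
  simp only [one_mulVec, zero_mulVec, mulVec_zero, add_zero, zero_add]

variable (ψ : AddChar F ℂ) {V : Type*} [AddCommGroup V] [Module ℂ V] [FiniteDimensional ℂ V]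
  (ρ : Representation ℂ (Om F m a b) V)

theorem rank_of_pconj {p p' : Idx m 2 → F} (h : PConj a b m i₀ p p') :
    finrank ℂ (LinearMap.range (eU hab hm ψ ρ i₀ p)) = finrank ℂ (LinearMap.range (eU hab hm ψ ρ i₀ p')) := by
  obtain ⟨g, hg, hp⟩ := h
  exact rank_eU_conj hab hm ψ ρ i₀ hg hp

omit [Fintype F] hab in
/-- Vectors with the same value and the same nonzero leading part are conjugate. -/
theorem rank_shift_aux (i₁ : Fin m) (h01 : i₁ ≠ i₀) (x : Fin m → F) (z : Fin 2 → F) (hx : x i₀ = 0) :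
    ∃ g : Om F m a b, (omv g : Matrix _ _ F) *ᵥ bpt i₀ = bpt i₀ ∧ ∃ c : F,
      (omv g : Matrix _ _ F) *ᵥ vec3 x (Pi.single i₁ 1) z = vec3 (Pi.single i₁ c) (Pi.single i₁ 1) 0 ∧
      c = Cfsg.quadFormMinus m F a b (vec3 x (Pi.single i₁ 1) z) := by
  set g₁ := el a b hm (col i₁ (-z)) 0
  set y : Fin m → F := Pi.single i₁ 1 with hy
  have h1 : (omv g₁ : Matrix _ _ F) *ᵥ vec3 x y z =
      vec3 (x + aBlk a b (col i₁ (-z)) 0 *ᵥ y + -((col i₁ (-z))ᵀ * pMat a b) *ᵥ z) y 0 := by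
    show elMat a b (col i₁ (-z)) 0 *ᵥ _ = _
    rw [elMat, blk3_mulVec]
    have e : col i₁ (-z) *ᵥ y = -z := by
      rw [col, vecMulVec_mulVec, hy, single_one_dotProduct, Pi.single_eq_same]
      simp
    simp only [zero_mulVec, one_mulVec, add_zero, zero_add, e, neg_add_cancel]
  set x' := x + aBlk a b (col i₁ (-z)) 0 *ᵥ y + -((col i₁ (-z))ᵀ * pMat a b) *ᵥ z with hx'
  set d : Fin m → F := Function.update (-x') i₁ 0 with hd
  set g₂ := el a b hm 0 (vecMulVec d (Pi.single i₁ 1))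
  have h2 : (omv g₂ : Matrix _ _ F) *ᵥ vec3 x' y 0 = vec3 (Pi.single i₁ (x' i₁)) y 0 := by
    show elMat a b 0 _ *ᵥ _ = _
    rw [elMat, blk3_mulVec]
    funext k
    rcases k with (k | k) | k
    · simp [vec3, aBlk, hy, sub_mulVec, transpose_vecMulVec, vecMulVec_mulVec, hd, Pi.single_apply,
        Function.update_apply]
      split_ifs with hk
      · subst hk; simp [vecMulVec_apply]
      · simp [vecMulVec_apply, hk, Ne.symm hk]
    · simp [vec3]
    · simp [vec3]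
  refine ⟨g₂ * g₁, ?_, x' i₁, ?_, ?_⟩
  · show ((omv g₂ : Matrix (Idx m 2) (Idx m 2) F) * (omv g₁ : Matrix (Idx m 2) (Idx m 2) F)) *ᵥ _ = _
    rw [← mulVec_mulVec, el_bpt hm, el_bpt hm]
  · show ((omv g₂ : Matrix (Idx m 2) (Idx m 2) F) * (omv g₁ : Matrix (Idx m 2) (Idx m 2) F)) *ᵥ _ = _
    rw [← mulVec_mulVec, h1, h2]
  · have e : Cfsg.quadFormMinus m F a b (((omv g₂ : Matrix (Idx m 2) (Idx m 2) F) * (omv g₁ : Matrix (Idx m 2) (Idx m 2) F)) *ᵥ vec3 x y z) =
        Cfsg.quadFormMinus m F a b (vec3 x y z) := by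
      rw [← mulVec_mulVec, mem_iso.1 (omv_iso g₂), mem_iso.1 (omv_iso g₁)]
    rw [← mulVec_mulVec, h1, h2, qf_vec3] at e
    rw [← e]
    simp [hy]

theorem rank_shift (i₁ : Fin m) (h01 : i₁ ≠ i₀) {x x' : Fin m → F} {z z' : Fin 2 → F} (hx : x i₀ = 0)
    (hx' : x' i₀ = 0) (hQ : Cfsg.quadFormMinus m F a b (vec3 x (Pi.single i₁ 1) z) =
      Cfsg.quadFormMinus m F a b (vec3 x' (Pi.single i₁ 1) z')) :
    finrank ℂ (LinearMap.range (eU hab hm ψ ρ i₀ (vec3 x (Pi.single i₁ 1) z))) =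
      finrank ℂ (LinearMap.range (eU hab hm ψ ρ i₀ (vec3 x' (Pi.single i₁ 1) z'))) := by
  obtain ⟨g, hg, c, hc, hcQ⟩ := rank_shift_aux hm i₀ i₁ h01 x z hx (a := a) (b := b)
  obtain ⟨g', hg', c', hc', hcQ'⟩ := rank_shift_aux hm i₀ i₁ h01 x' z' hx' (a := a) (b := b)
  have hr : ∀ {u : Fin m → F} {t : Fin 2 → F}, u i₀ = 0 →
      red i₀ (vec3 u (Pi.single i₁ 1) t) = vec3 u (Pi.single i₁ 1) t := fun {u t} hu => by
    rw [red_vec3, show Function.update u i₀ 0 = u by rw [← hu, Function.update_eq_self],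
      show Function.update (Pi.single i₁ (1 : F) : Fin m → F) i₀ 0 = Pi.single i₁ 1 from
        Function.update_eq_self_iff.2 (by simp [h01.symm])]
  rw [rank_of_pconj hab hm i₀ ψ ρ (p' := vec3 (Pi.single i₁ c) (Pi.single i₁ 1) 0) ⟨g, hg, by rw [hr hx, hc]⟩,
    rank_of_pconj hab hm i₀ ψ ρ (p := vec3 x' (Pi.single i₁ 1) z') (p' := vec3 (Pi.single i₁ c') (Pi.single i₁ 1) 0) ⟨g', hg', by rw [hr hx', hc']⟩]
  rw [hcQ, hcQ', hQ]

/-- Reduction of the nonzero leading part to a coordinate vector. -/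
theorem rank_lead (i₁ : Fin m) (h01 : i₁ ≠ i₀) {x y : Fin m → F} (z : Fin 2 → F) (hx : x i₀ = 0) (hy : y i₀ = 0)
    (hy0 : y ≠ 0) : ∃ x' : Fin m → F, x' i₀ = 0 ∧ x' i₁ = x ⬝ᵥ y ∧
      finrank ℂ (LinearMap.range (eU hab hm ψ ρ i₀ (vec3 x y z))) =
        finrank ℂ (LinearMap.range (eU hab hm ψ ρ i₀ (vec3 x' (Pi.single i₁ 1) z))) := by
  obtain ⟨h, h1, h2, h3⟩ := exists_fix_move hm i₀ hy0 (w := Pi.single i₁ 1) (by simp) hy (by simp [h01.symm])
  -- the inverse transpose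
  set g : SpecialLinearGroup (Fin m) F := ⟨(h⁻¹ : SpecialLinearGroup (Fin m) F).1ᵀ, by
    rw [det_transpose]; exact (h⁻¹).2⟩ with hg
  have hgi : ((SpecialLinearGroup.toGL g)⁻¹).1ᵀ = h.1 := by
    have e : g * ⟨h.1ᵀ, by rw [det_transpose]; exact h.2⟩ = 1 := Subtype.ext (by
      show (h⁻¹ : SpecialLinearGroup (Fin m) F).1ᵀ * h.1ᵀ = 1
      rw [← transpose_mul, ← sl_mul_val, mul_inv_cancel, sl_one_val, transpose_one])
    rw [← map_inv, inv_eq_of_mul_eq_one_right e]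
    exact transpose_transpose _
  have hge : g.1 *ᵥ Pi.single i₀ 1 = Pi.single i₀ 1 := by
    funext k
    have e : ∀ v, ((h⁻¹ : SpecialLinearGroup (Fin m) F).1 *ᵥ v) i₀ = v i₀ := fun v => by
      have := h3 ((h⁻¹ : SpecialLinearGroup (Fin m) F).1 *ᵥ v)
      rwa [mulVec_mulVec, ← sl_mul_val, mul_inv_cancel, sl_one_val, one_mulVec, eq_comm] at this
    have := e (Pi.single k 1)
    simp only [mulVec_single_one, col_apply] at this
    simp only [hg, mulVec_single_one, col_apply, transpose_apply]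
    rw [this]
    simp [Pi.single_apply, eq_comm]
  refine ⟨Function.update (g.1 *ᵥ x) i₀ 0, by simp, ?_, ?_⟩
  · rw [Function.update_of_ne h01]
    calc (g.1 *ᵥ x) i₁ = (g.1 *ᵥ x) ⬝ᵥ (Pi.single i₁ 1 : Fin m → F) := by simp
      _ = (g.1 *ᵥ x) ⬝ᵥ (h.1 *ᵥ y) := by rw [h1]
      _ = x ⬝ᵥ y := by
        rw [dotProduct_comm, dotProduct_mulVec, hg]
        show ((h.1 *ᵥ y) ᵥ* (h⁻¹ : SpecialLinearGroup (Fin m) F).1ᵀ) ⬝ᵥ x = _
        rw [vecMul_transpose, mulVec_mulVec, ← sl_mul_val, inv_mul_cancel, sl_one_val, one_mulVec, dotProduct_comm]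
  refine rank_of_pconj hab hm i₀ ψ ρ ⟨le a b hm g, le_bpt hm i₀ hge, ?_⟩
  show red i₀ (blk3 g.1 0 0 0 ((SpecialLinearGroup.toGL g)⁻¹).1ᵀ 0 0 0 1 *ᵥ red i₀ (vec3 x y z)) = _
  rw [red_vec3, show Function.update x i₀ 0 = x by rw [← hx, Function.update_eq_self],
    show Function.update y i₀ 0 = y by rw [← hy, Function.update_eq_self], blk3_mulVec, hgi]
  simp only [zero_mulVec, one_mulVec, add_zero, zero_add, h1, red_vec3]
  congr 1
  simp

end Orbits

section Contradiction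

variable (hab : ∀ z₁ z₂ : F, z₁ ^ 2 + a * z₁ * z₂ + b * z₂ ^ 2 = 0 → z₁ = 0 ∧ z₂ = 0) (hm : 3 ≤ m)
  (ψ : AddChar F ℂ) (hψ : ψ.IsPrimitive) {V : Type*} [AddCommGroup V] [Module ℂ V] [FiniteDimensional ℂ V]
  (ρ : Representation ℂ (Om F m a b) V) (i₀ : Fin m)
include hab hm hψ

omit hψ [FiniteDimensional ℂ V] in
theorem el_commute_eU {p : Idx m 2 → F} (g : Om F m a b) (hg : (omv g : Matrix _ _ F) *ᵥ bpt i₀ = bpt i₀)
    (hp : red i₀ ((omv g : Matrix _ _ F) *ᵥ red i₀ p) = red i₀ p) :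
    ρ g * eU hab hm ψ ρ i₀ p = eU hab hm ψ ρ i₀ p * ρ g := conj_eU hab hm ψ ρ i₀ hg hp

omit hψ [FiniteDimensional ℂ V] in
theorem eZ_commute_eU {p : Idx m 2 → F} (B : Matrix (Fin m) (Fin m) F)
    (hp : ∀ i, red i₀ p (.inl (.inr i)) = 0) :
    eU hab hm ψ ρ i₀ p * eZ hm ψ ρ B = eZ hm ψ ρ B * eU hab hm ψ ρ i₀ p := by
  refine mul_eigProj_of_conj ψ _ Function.bijective_id (fun v => (el_commute_eU hab hm ψ ρ i₀ _ ?_ ?_).symm)
    fun v => rfl
  · exact el_bpt hm i₀ _ _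
  · obtain ⟨x, y, z, h⟩ := exists_vec3 (red i₀ p)
    have hy : y = 0 := funext fun i => by simpa [h, vec3] using hp i
    show red i₀ (elMat a b 0 _ *ᵥ red i₀ p) = red i₀ p
    rw [h, elMat, blk3_mulVec, hy]
    subst hy
    simp only [one_mulVec, zero_mulVec, mulVec_zero, transpose_zero, Matrix.zero_mul, neg_zero, add_zero, zero_add]
    rw [← h, red_red]

theorem case_z (hA : ∀ B, B ≠ 0 → finrank ℂ (LinearMap.range (eZ hm ψ ρ B)) < 2 * Fintype.card F ^ 2)
    (hX : ∀ w, ρ (el a b hm w 0) * eZ hm ψ ρ 0 = eZ hm ψ ρ 0)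
    {x : Fin m → F} (hx : x i₀ = 0) {z : Fin 2 → F} (hz : z ≠ 0) : eU hab hm ψ ρ i₀ (vec3 x 0 z) = 0 := by
  classical
  by_contra hne
  set p := vec3 x (0 : Fin m → F) z with hp
  set PU := eU hab hm ψ ρ i₀ p with hPU
  have hred : red i₀ p = p := by
    rw [hp, red_vec3, show Function.update x i₀ 0 = x by rw [← hx, Function.update_eq_self],
      show Function.update (0 : Fin m → F) i₀ 0 = 0 from Function.update_eq_self i₀ (0 : Fin m → F)]
  obtain ⟨B, hB⟩ : ∃ B, eZ hm ψ ρ B * PU ≠ 0 := by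
    by_contra h
    push Not at h
    apply hne
    rw [← one_mul PU, ← sum_eZ hm ψ ρ hψ, Finset.sum_mul]
    exact Finset.sum_eq_zero fun B _ => h B
  have hcomm := eZ_commute_eU hab hm ψ ρ i₀ (p := p) B (fun i => by rw [hred]; rfl)
  rw [← hPU] at hcomm
  -- scalar action of the column elements
  have hcol : ∀ ζ, ρ (el a b hm (col i₀ ζ) 0) * PU = ψ (ζ ⬝ᵥ pMat a b *ᵥ z) • PU := fun ζ => by
    rw [← pel_el_col hab hm, hPU, pel_mul_eU, hred, hp, polar_vec3]
    simp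
  have hα : ∀ α : Fin m → F, α i₀ = 0 → ρ (el a b hm 0 (vecMulVec α (Pi.single i₀ 1))) * PU = PU := fun α hα => by
    rw [← pel_el_z hab hm i₀ hα, hPU, pel_mul_eU, hred, hp, polar_vec3]
    simp
  have hEne : eZ hm ψ ρ B ≠ 0 := fun e => hB (by rw [e, zero_mul])
  have hB0 : B ≠ 0 := by
    intro e
    subst e
    obtain ⟨c, hc⟩ : ∃ c, ψ c ≠ 1 := by
      by_contra h
      push Not at h
      exact hψ (one_ne_zero (α := F)) (DFunLike.ext _ _ fun x => by simpa using h x)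
    obtain ⟨ζ, hζ⟩ : ∃ ζ : Fin 2 → F, ζ ⬝ᵥ pMat a b *ᵥ z = c := by
      have hPz : pMat a b *ᵥ z ≠ 0 := fun e => hz
        ((mulVec_injective_iff_isUnit.2 ((isUnit_iff_isUnit_det _).2 (pMat_unit hab))) (by rw [e, mulVec_zero]))
      obtain ⟨k, hk⟩ := Function.ne_iff.1 hPz
      exact ⟨Pi.single k (c / (pMat a b *ᵥ z) k), by rw [single_dotProduct, div_mul_cancel₀ _ hk]⟩
    apply hB
    have h1 : eZ hm ψ ρ 0 * (ρ (el a b hm (col i₀ ζ) 0) * PU) = eZ hm ψ ρ 0 * PU := by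
      rw [← mul_assoc, ← el_mul_eZ, hX]
    rw [hcol, hζ, mul_smul_comm] at h1
    by_contra h2
    exact hc (smul_left_injective ℂ h2 (by simpa using h1))
  have hBalt := isAlt_of_eZ hm ψ ρ hψ hEne
  -- the first column vanishes
  have hBcol : ∀ k, B k i₀ = 0 := by
    intro k
    rcases eq_or_ne k i₀ with rfl | hk
    · exact hBalt.2 _
    by_contra hne'
    apply hψ hne'
    ext c
    have h1 := central_on hm ψ ρ (P := eZ hm ψ ρ B * PU)
      (by rw [← mul_assoc, eZ_mul hm ψ ρ hψ, if_pos rfl]) (vecMulVec (Pi.single k c) (Pi.single i₀ 1))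
    have h2 : ρ (el a b hm 0 (vecMulVec (Pi.single k c) (Pi.single i₀ 1))) * (eZ hm ψ ρ B * PU) =
        eZ hm ψ ρ B * PU := by
      rw [← mul_assoc, el_mul_eZ, mul_assoc, hα _ (by simp [hk.symm])]
    rw [h2, show vecMulVec (Pi.single k c : Fin m → F) (Pi.single i₀ (1 : F)) = single k i₀ c by
      ext p q; simp [vecMulVec_apply, single_apply, Pi.single_apply, ite_and, eq_comm]; split_ifs <;> rfl, pr_single] at h1
    show ψ (B k i₀ * c) = (1 : AddChar F ℂ) c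
    rw [AddChar.one_apply, mul_comm]
    exact (smul_left_injective ℂ hB (by simpa using h1)).symm
  -- projections by the characters of the column group
  set E := eZ hm ψ ρ B with hE
  set τ : (Fin 2 → F) → Module.End ℂ V := fun ζ => ρ (el a b hm (col i₀ ζ) 0) with hτ
  have h0 : τ 0 = 1 := by simp only [hτ]; rw [col_zero, el_zero, map_one]
  have hadd : ∀ u v, τ (u + v) = τ u * τ v := fun u v => by
    simp only [hτ]
    rw [← map_mul, el_mul, col_add]
    congr 1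
    refine el_congr a b hm ?_
    rw [col_prod, add_zero, zero_add, transpose_single]
    simp
  set Eζ := eigProj ψ τ with hEζ
  have hEE : ∀ c, E * Eζ c = Eζ c * E := fun c => by
    simp only [hEζ, eigProj, hτ, mul_smul_comm, smul_mul_assoc, Finset.mul_sum, Finset.sum_mul, hE, el_mul_eZ]
  have hidE : E * E = E := by rw [hE, eZ_mul hm ψ ρ hψ, if_pos rfl]
  have hid : ∀ c c', (E * Eζ c) * (E * Eζ c') = if c = c' then E * Eζ c' else 0 := fun c c' => by
    rw [mul_assoc, ← mul_assoc (Eζ c), ← hEE, mul_assoc E (Eζ c), ← mul_assoc E E, hidE, hEζ,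
      eigProj_mul ψ hψ τ hadd hK]
    split_ifs <;> simp
  have hQcomm : ∀ c w, ρ (el a b hm w 0) * (E * Eζ c) = (E * Eζ c) * ρ (el a b hm w 0) := fun c w => by
    rw [← mul_assoc]
    refine (mul_eigProj_of_conj ψ τ Function.bijective_id (g := ρ (el a b hm w 0) * E) (fun v => ?_)
      fun v => rfl).trans ?_
    · simp only [hτ, id]
      have h1 := el_comm_on hm ψ ρ (B := B) (P := E) hidE (fun w => el_mul_eZ hm ψ ρ w 0 B) w (col i₀ v)
      rw [show pr ((col i₀ v)ᵀ * pMat a b * w) B = 0 by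
        simp only [pr, col, transpose_vecMulVec, vecMulVec_mul, vecMulVec_apply]
        refine Finset.sum_eq_zero fun k _ => Finset.sum_eq_zero fun l _ => ?_
        rcases eq_or_ne k i₀ with rfl | hk
        · rw [hBalt.1 l k, hBcol l]; simp
        · simp [Pi.single_eq_of_ne hk], AddChar.map_zero_eq_one, one_smul, mul_assoc (ρ (el a b hm (col i₀ v) 0))] at h1
      rw [mul_assoc (ρ (el a b hm w 0)), hE, ← el_mul_eZ, ← mul_assoc, ← hE, h1]
    · rw [hE, el_mul_eZ, ← mul_assoc, ← hE, ← hEE]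
  -- the occurring character
  set c₁ := pMat a b *ᵥ z with hc₁
  have hc0 : c₁ ≠ 0 := fun e => hz
    ((mulVec_injective_iff_isUnit.2 ((isUnit_iff_isUnit_det _).2 (pMat_unit hab))) (by rw [← hc₁, e, mulVec_zero]))
  have hP1 : E * Eζ c₁ ≠ 0 := by
    intro e
    apply hB
    have h1 : Eζ c₁ * PU = PU := by
      simp only [hEζ, eigProj, hτ, smul_mul_assoc, Finset.sum_mul, hcol, smul_smul, ← AddChar.map_add_eq_mul,
        neg_add_cancel, AddChar.map_zero_eq_one, one_smul, Finset.sum_const, Finset.card_univ]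
      rw [← Nat.cast_smul_eq_nsmul ℂ, smul_smul, inv_mul_cancel₀ (card_fun_ne_zero hK), one_smul]
    rw [← h1, ← mul_assoc, e, zero_mul]
  -- rotation
  obtain ⟨h, h', e, hN, hmem, hdet⟩ := rot_exists (m := m) a b hab
  let r : Om F m a b := ⟨_, hmem⟩
  have hrot : ∀ (w : Matrix (Fin 2) (Fin m) F) (M : Matrix (Fin m) (Fin m) F), (h * w)ᵀ * nMat a b * (h * w) =
      wᵀ * nMat a b * w → r * el a b hm w M = el a b hm (h * w) M * r := by
    intro w M hw
    refine Subtype.ext (iso_ext ?_)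
    show blk3 1 0 0 0 1 0 0 0 h * elMat a b w M = elMat a b (h * w) M * blk3 1 0 0 0 1 0 0 0 h
    rw [elMat, elMat, blk3_mul, blk3_mul]
    have hP : (h * w)ᵀ * pMat a b * h = wᵀ * pMat a b := by
      have hh : hᵀ * pMat a b * h = pMat a b := by
        refine Matrix.ext fun i j => ?_
        have h2 : ∀ u v : Fin 2 → F, (h *ᵥ u) ⬝ᵥ pMat a b *ᵥ (h *ᵥ v) = u ⬝ᵥ pMat a b *ᵥ v := fun u v => by
          have e3 := hN (u + v)
          simp only [mulVec_add, add_dotProduct, dotProduct_add, hN] at e3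
          simp only [pMat, add_mulVec, dotProduct_add, mulVec_transpose, dotProduct_comm _ (_ ᵥ* _), ← dotProduct_mulVec]
          linear_combination e3
        have := h2 (Pi.single i 1) (Pi.single j 1)
        simp only [mulVec_single_one, single_dotProduct, one_mul] at this
        rw [Matrix.mul_assoc]
        exact this
      rw [transpose_mul, Matrix.mul_assoc, Matrix.mul_assoc, ← Matrix.mul_assoc hᵀ, hh]
    simp only [aBlk, hw, Matrix.mul_zero, Matrix.zero_mul, Matrix.one_mul, Matrix.mul_one, add_zero, zero_add,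
      Matrix.neg_mul, hP]
  have hrE : ρ r * E = E * ρ r := by
    refine mul_eigProj_of_conj ψ _ Function.bijective_id (fun v => ?_) fun v => rfl
    simp only [tauZ, id]
    rw [← map_mul, ← map_mul, hrot 0 _ (by simp), Matrix.mul_zero]
  have hu : IsUnit h.det := IsUnit.of_mul_eq_one h'.det (by rw [← det_mul, e, det_one])
  set c₂ := (h⁻¹)ᵀ *ᵥ c₁ with hc₂
  have hrot2 : ρ r * Eζ c₁ = Eζ c₂ * ρ r := by
    refine mul_eigProj_of_conj ψ τ (f := fun v => h *ᵥ v)
      (Finite.injective_iff_bijective.1 (mulVec_injective_iff_isUnit.2 ((isUnit_iff_isUnit_det _).2 hu)))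
      (fun v => ?_) fun v => ?_
    · simp only [hτ]
      rw [← map_mul, ← map_mul]
      have hcv : h * col i₀ v = col i₀ (h *ᵥ v) := by rw [col, col, mul_vecMulVec]
      rw [hrot _ _ (by rw [hcv, col_prod, col_prod, hN]), hcv]
    · rw [dotProduct_mulVec, vecMul_transpose, mulVec_mulVec, Matrix.nonsing_inv_mul h hu, one_mulVec]
  have hne12 : c₁ ≠ c₂ := by
    intro ec
    apply hc0
    have h1 : hᵀ *ᵥ c₁ = c₁ := by
      conv_lhs => rw [ec, hc₂, mulVec_mulVec, ← transpose_mul, Matrix.nonsing_inv_mul h hu, transpose_one, one_mulVec]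
    have h2 : (h - 1)ᵀ *ᵥ c₁ = 0 := by rw [transpose_sub, transpose_one, sub_mulVec, one_mulVec, h1, sub_self]
    exact (mulVec_injective_iff_isUnit.2 ((isUnit_iff_isUnit_det _).2
      (by rw [det_transpose]; exact isUnit_iff_ne_zero.2 hdet))) (by rw [h2, mulVec_zero])
  have hP12 : ρ r * (E * Eζ c₁) = (E * Eζ c₂) * ρ r := by
    rw [← mul_assoc, hrE, mul_assoc, hrot2, mul_assoc]
  obtain ⟨i, j, hij⟩ : ∃ i j, B j i ≠ 0 := by
    by_contra hc
    push Not at hc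
    exact hB0 (by ext x y; simpa using hc y x)
  have hr1 := rank_two hm ψ ρ hψ (B := B) (P := E * Eζ c₁) (by rw [← mul_assoc, ← hE, hidE]) hab
    (by rw [hid, if_pos rfl]) hP1 (hQcomm c₁) hBalt hij
  have hr2 : finrank ℂ (LinearMap.range (E * Eζ c₁)) = finrank ℂ (LinearMap.range (E * Eζ c₂)) :=
    finrank_range_of_conj ((Group.isUnit r).map ρ) hP12
  have hle := pair_le (E := E) (P₁ := E * Eζ c₁) (P₂ := E * Eζ c₂) (by rw [hid, if_pos rfl])
    (by rw [hid, if_pos rfl]) (by rw [hid, if_neg hne12]) (by rw [hid, if_neg hne12.symm])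
    (by rw [← mul_assoc, hidE]) (by rw [← mul_assoc, hidE])
  have := hA B hB0
  rw [← hE] at this
  omega

theorem case_x (hV : finrank ℂ V < Fintype.card F ^ (2 * m))
    (hX' : ∀ g, ρ (le a b hm g) * eZ hm ψ ρ 0 = eZ hm ψ ρ 0)
    {x : Fin m → F} (hx : x i₀ = 0) (hx0 : x ≠ 0) : eU hab hm ψ ρ i₀ (vec3 x 0 0) = 0 := by
  classical
  by_contra hne
  set p := vec3 x (0 : Fin m → F) (0 : Fin 2 → F) with hp
  set PU := eU hab hm ψ ρ i₀ p with hPU
  have hred : red i₀ p = p := by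
    rw [hp, red_vec3, show Function.update x i₀ 0 = x by rw [← hx, Function.update_eq_self],
      show Function.update (0 : Fin m → F) i₀ 0 = 0 from Function.update_eq_self i₀ (0 : Fin m → F)]
  obtain ⟨B, hB⟩ : ∃ B, eZ hm ψ ρ B * PU ≠ 0 := by
    by_contra h
    push Not at h
    apply hne
    rw [← one_mul PU, ← sum_eZ hm ψ ρ hψ, Finset.sum_mul]
    exact Finset.sum_eq_zero fun B _ => h B
  have hcomm := eZ_commute_eU hab hm ψ ρ i₀ (p := p) B (fun i => by rw [hred]; rfl)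
  rw [← hPU] at hcomm
  obtain ⟨k, hk⟩ := Function.ne_iff.1 hx0
  have hki : k ≠ i₀ := fun e => hk (e ▸ hx)
  have hB0 : B ≠ 0 := by
    intro e
    subst e
    obtain ⟨c, hc⟩ : ∃ c, ψ c ≠ 1 := by
      by_contra h
      push Not at h
      exact hψ (one_ne_zero (α := F)) (DFunLike.ext _ _ fun x => by simpa using h x)
    set η : Fin m → F := Pi.single k (c / x k) with hη
    have hη0 : η i₀ = 0 := by simp [hη, hki.symm]
    have hval : η ⬝ᵥ x = c := by rw [hη, single_dotProduct, div_mul_cancel₀ _ hk]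
    have h1 := pel_mul_eU hab hm ψ ρ i₀ (vec3 0 η 0) p
    rw [pel_le hab hm i₀ hη0, hred, ← hPU, hp, polar_vec3, zero_dotProduct, zero_dotProduct, zero_add, add_zero,
      hval] at h1
    have h2 : ρ (le a b hm (trow i₀ (-η) (by simp [hη0]))) * (eZ hm ψ ρ 0 * PU) = eZ hm ψ ρ 0 * PU := by
      rw [← mul_assoc, hX']
    rw [← hcomm, ← mul_assoc] at h2
    rw [h1, smul_mul_assoc] at h2
    by_contra h3
    exact hc (smul_left_injective ℂ (hcomm ▸ hB) (by simpa using h2))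
  have hidE : eZ hm ψ ρ B * eZ hm ψ ρ B = eZ hm ψ ρ B := by rw [eZ_mul hm ψ ρ hψ, if_pos rfl]
  have hidU : PU * PU = PU := by
    rw [hPU, eU, eigProj_mul ψ hψ _ (tauU_add hab hm ρ i₀) hK, if_pos rfl]
  have hQ : ∀ w, ρ (el a b hm w 0) * PU = PU * ρ (el a b hm w 0) := fun w => by
    refine el_commute_eU hab hm ψ ρ i₀ _ (el_bpt hm i₀ _ _) ?_
    rw [hred, hp]
    show red i₀ (elMat a b w 0 *ᵥ vec3 x 0 0) = _
    rw [elMat, blk3_mulVec]
    simp [← hp, hred]
  have hEne : eZ hm ψ ρ B ≠ 0 := fun e => hB (by rw [e, zero_mul])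
  obtain ⟨i, j, hij⟩ : ∃ i j, B j i ≠ 0 := by
    by_contra hc
    push Not at hc
    exact hB0 (by ext x y; simpa using hc y x)
  have hr1 := rank_two hm ψ ρ hψ (B := B) (P := eZ hm ψ ρ B * PU) (by rw [← mul_assoc, hidE]) hab
    (by rw [mul_assoc, ← mul_assoc PU, hcomm, mul_assoc (eZ hm ψ ρ B) PU, hidU, ← mul_assoc, hidE]) hB
    (fun w => by rw [← mul_assoc, el_mul_eZ, mul_assoc, hQ, mul_assoc]) (isAlt_of_eZ hm ψ ρ hψ hEne) hij
  have hr2 : Fintype.card F ^ 2 ≤ finrank ℂ (LinearMap.range PU) := hr1.trans (by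
    rw [← hcomm]; exact rank_mul_le _ _)
  -- the orbit
  obtain ⟨i₁, h01', -⟩ := exists_third hm i₀ i₀
  have h01 : i₁ ≠ i₀ := h01'.symm
  obtain ⟨i₂, h02, h12⟩ := exists_third hm i₀ i₁
  -- move to the coordinate vector and apply a transformation
  obtain ⟨g, hg1, hg2, hg3⟩ := exists_fix_move hm i₀ hx0 (w := Pi.single i₂ 1) (by simp) hx (by simp [h02])
  have hmove : finrank ℂ (LinearMap.range PU) =
      finrank ℂ (LinearMap.range (eU hab hm ψ ρ i₀ (vec3 (Pi.single i₂ 1) 0 0))) := by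
    refine rank_of_pconj hab hm i₀ ψ ρ ⟨le a b hm g, le_bpt hm i₀ hg2, ?_⟩
    rw [hred, hp]
    show red i₀ (blk3 g.1 0 0 0 ((SpecialLinearGroup.toGL g)⁻¹).1ᵀ 0 0 0 1 *ᵥ vec3 x 0 0) = _
    rw [blk3_mulVec]
    simp [hg1]
  set u : Idx m 2 → F := vec3 0 (Pi.single i₁ 1) 0 with hu
  set a' : Idx m 2 → F := vec3 0 (Pi.single i₂ 1) 0 with ha'
  obtain ⟨s, hs⟩ := exists_omega_E (qnd hab) (five_le hm) (u := u) (a := a') (by simp [hu, qf_vec3])
    (by simp [hu, ha', polar_vec3])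
  have hsb : (omv s : Matrix _ _ F) *ᵥ bpt i₀ = bpt i₀ := by
    rw [hs, hu, ha', bpt, polar_vec3, polar_vec3]
    simp [h01', h02]
  have hsv : red i₀ ((omv s : Matrix _ _ F) *ᵥ red i₀ (vec3 (Pi.single i₂ 1) 0 0)) =
      red i₀ (vec3 (Pi.single i₂ 1) (-Pi.single i₁ 1) 0) := by
    have e2 : red i₀ (vec3 (Pi.single i₂ (1 : F)) 0 0) = vec3 (Pi.single i₂ 1) 0 0 := by
      rw [red_vec3, Function.update_eq_self_iff.2 (by simp [h02]),
        show Function.update (0 : Fin m → F) i₀ 0 = 0 from Function.update_eq_self i₀ (0 : Fin m → F)]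
    rw [e2, hs, hu, ha', polar_vec3, polar_vec3, qf_vec3]
    congr 1
    funext q
    rcases q with (q | q) | q <;> simp [vec3, Pi.single_apply, h12.symm]
  have hstep := rank_of_pconj hab hm i₀ ψ ρ ⟨s, hsb, hsv⟩
  obtain ⟨x₁, hx₁, hx₁Q, hlead⟩ := rank_lead hab hm i₀ ψ ρ i₁ h01 (0 : Fin 2 → F) (x := Pi.single i₂ 1)
    (y := -Pi.single i₁ 1) (Pi.single_eq_of_ne h02 1) (by simp [h01']) (by simp)
  have hQ0 : Cfsg.quadFormMinus m F a b (vec3 x₁ (Pi.single i₁ 1) 0) = 0 := by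
    rw [qf_vec3]
    simp [hx₁Q, h12]
  -- the family
  let ι' := {q : Fin m // q ≠ i₀ ∧ q ≠ i₁}
  let η : (ι' → F) → Fin m → F := fun f q => if hq : q ≠ i₀ ∧ q ≠ i₁ then f ⟨q, hq⟩ else 0
  have hfam : ∀ f : (ι' → F) × (ι' → F) × (Fin 2 → F), ∃ v : Idx m 2 → F,
      (∀ q, v (.inl (.inr q)) = (Pi.single i₁ 1 + η f.1 : Fin m → F) q) ∧ (fun q => v (.inr q)) = f.2.2 ∧
      (∀ q : ι', v (.inl (.inl q)) = f.2.1 q) ∧
      Fintype.card F ^ 2 ≤ finrank ℂ (LinearMap.range (eU hab hm ψ ρ i₀ v)) := by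
    rintro ⟨f, d, ζ⟩
    set y : Fin m → F := Pi.single i₁ 1 + η f with hy
    set c : F := -(η d ⬝ᵥ y + ζ ⬝ᵥ nMat a b *ᵥ ζ) with hc
    set xx : Fin m → F := η d + Pi.single i₁ c with hxx
    have hxx0 : xx i₀ = 0 := by simp [hxx, η, h01']
    have hy0 : y i₀ = 0 := by simp [hy, η, h01']
    have hy1 : y i₁ = 1 := by simp [hy, η]
    refine ⟨vec3 xx y ζ, fun q => rfl, rfl, fun q => ?_, ?_⟩
    · show xx q = d q
      simp [hxx, η, q.2.1, q.2.2]
    obtain ⟨x₂, hx₂, hx₂Q, hl2⟩ := rank_lead hab hm i₀ ψ ρ i₁ h01 ζ hxx0 hy0 (fun e => by simp [e] at hy1)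
    rw [hl2, rank_shift hab hm i₀ ψ ρ i₁ h01 hx₂ hx₁ (z' := 0) (by
      rw [hQ0, qf_vec3]
      simp [hx₂Q, hxx, add_dotProduct, hy1, hc]), ← hlead, ← hstep, ← hmove]
    exact hr2
  choose fv hv1 hv2 hv3 hv4 using hfam
  have hinj : Function.Injective fun f => red i₀ (fv f) := by
    rintro ⟨f, d, ζ⟩ ⟨f', d', ζ'⟩ e
    refine Prod.ext (funext fun q => ?_) (Prod.ext (funext fun q => ?_) ?_)
    · have e1 := congrFun e (.inl (.inr q.1))
      simpa [red, q.2.1, hv1, η, q.2.2, q.2] using e1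
    · have e1 := congrFun e (.inl (.inl q.1))
      simpa [red, q.2.1, hv3] using e1
    · funext r
      have e1 := congrFun e (.inr r)
      simp [red] at e1
      rw [← congrFun (hv2 (f, d, ζ)) r, ← congrFun (hv2 (f', d', ζ')) r]
      exact e1
  have hsum := sum_rank_eU_le hab hm ψ ρ hψ i₀ fv hinj
  have hge := Finset.sum_le_sum (s := (Finset.univ : Finset ((ι' → F) × (ι' → F) × (Fin 2 → F))))
    (f := fun _ => Fintype.card F ^ 2) fun f _ => hv4 f
  have hcard : Fintype.card ι' = m - 2 := by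
    rw [Fintype.card_subtype, show (Finset.univ.filter fun x : Fin m => x ≠ i₀ ∧ x ≠ i₁) = Finset.univ \ {i₀, i₁} by
      ext x; simp, Finset.card_sdiff, Finset.inter_univ, Finset.card_pair h01', Finset.card_univ, Fintype.card_fin]
  rw [Finset.sum_const, Finset.card_univ, Fintype.card_prod, Fintype.card_prod, Fintype.card_fun, Fintype.card_fun,
    Fintype.card_fin, hcard, smul_eq_mul, ← pow_add, ← pow_add, ← pow_add] at hge
  rw [show 2 * m = (m - 2) + ((m - 2) + 2) + 2 by omega] at hV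
  omega

end Contradiction

end CfsgLib.Classical.WeilOmega
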