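/-
If the occurring central characters are small and the Levi factor is trivial on the fixed space of the centre,
the representation is trivial.
-/
import Cfsg.Agent.Lib.Classical.WeilOmega.Main
import Cfsg.Agent.Lib.Perm.Trans.QuadSimple

set_option autoImplicit false

namespace CfsgLib.Classical.WeilOmega

open Matrix Module CfsgLib.LinDeg CfsgLib.Classical.WeilSU CfsgLib.Perm.Trans CfsgLib.Perm.Trans.Quad

variable {F : Type*} [Field F] [Fintype F] {m : ℕ} {a b : F}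

theorem norm_surj (hab : ∀ z₁ z₂ : F, z₁ ^ 2 + a * z₁ * z₂ + b * z₂ ^ 2 = 0 → z₁ = 0 ∧ z₂ = 0) (c : F) :
    ∃ z : Fin 2 → F, z ⬝ᵥ nMat a b *ᵥ z = c := by
  obtain ⟨v, -, hv⟩ := exists_value_two (qnd (m := 0) hab) (ndOn_top (qnd (m := 0) hab)) (by simp) c
  obtain ⟨x, y, z, rfl⟩ := exists_vec3 v
  refine ⟨z, ?_⟩
  rw [qf_vec3] at hv
  simpa [Subsingleton.elim x 0] using hv

section Small

variable (hab : ∀ z₁ z₂ : F, z₁ ^ 2 + a * z₁ * z₂ + b * z₂ ^ 2 = 0 → z₁ = 0 ∧ z₂ = 0) (hm : 3 ≤ m)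
  (ψ : AddChar F ℂ) (hψ : ψ.IsPrimitive) {V : Type*} [AddCommGroup V] [Module ℂ V] [FiniteDimensional ℂ V]
  (ρ : Representation ℂ (Om F m a b) V)
  (hV : finrank ℂ V < Fintype.card F ^ (2 * m))
  (hA : ∀ B, B ≠ 0 → finrank ℂ (LinearMap.range (eZ hm ψ ρ B)) < 2 * Fintype.card F ^ 2)
  (hX : ∀ w, ρ (el a b hm w 0) * eZ hm ψ ρ 0 = eZ hm ψ ρ 0)
  (hX' : ∀ g, ρ (le a b hm g) * eZ hm ψ ρ 0 = eZ hm ψ ρ 0)
include hab hm hψ hV hA hX hX'

/-- The nontrivial characters of the radical of the point stabiliser do not occur. -/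
theorem eU_vanish (i₀ : Fin m) (p : Idx m 2 → F) (hp : red i₀ p ≠ 0) : eU hab hm ψ ρ i₀ p = 0 := by
  classical
  obtain ⟨x, y, z, hxyz⟩ := exists_vec3 (red i₀ p)
  have hrr := red_red i₀ p
  rw [hxyz, red_vec3] at hrr
  obtain ⟨hx', hy', -⟩ := vec3_inj hrr
  have hx : x i₀ = 0 := (Function.update_eq_self_iff.1 hx').symm
  have hy : y i₀ = 0 := (Function.update_eq_self_iff.1 hy').symm
  have heq : eU hab hm ψ ρ i₀ p = eU hab hm ψ ρ i₀ (vec3 x y z) := by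
    rw [← hxyz]; simp only [eU, red_red]
  have rz : ∀ {q : Idx m 2 → F}, finrank ℂ (LinearMap.range (eU hab hm ψ ρ i₀ q)) = 0 →
      eU hab hm ψ ρ i₀ q = 0 := fun h => LinearMap.range_eq_bot.1 (Submodule.finrank_eq_zero.1 h)
  rw [heq]
  by_cases hy0 : y = 0
  · subst hy0
    by_cases hz : z = 0
    · subst hz
      refine case_x hab hm ψ hψ ρ i₀ hV hX' hx fun h => hp ?_
      rw [hxyz, h]
      funext k
      rcases k with (k | k) | k <;> rfl
    · exact case_z hab hm ψ hψ ρ i₀ hA hX hx hz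
  obtain ⟨i₁, h01', -⟩ := exists_third hm i₀ i₀
  have h01 : i₁ ≠ i₀ := h01'.symm
  obtain ⟨x', hx1, hxQ, hlead⟩ := rank_lead hab hm i₀ ψ ρ i₁ h01 z hx hy hy0
  apply rz
  rw [hlead]
  set e₁ : Fin m → F := Pi.single i₁ 1 with he₁
  have he10 : e₁ i₀ = 0 := Pi.single_eq_of_ne h01' 1
  set u : Idx m 2 → F := vec3 0 e₁ 0 with hu
  have hr : ∀ (v : Fin m → F) (t : Fin 2 → F), v i₀ = 0 → red i₀ (vec3 v (0 : Fin m → F) t) = vec3 v 0 t :=
    fun v t hv => by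
      rw [red_vec3, show Function.update v i₀ 0 = v from Function.update_eq_self_iff.2 hv.symm,
        show Function.update (0 : Fin m → F) i₀ 0 = 0 from Function.update_eq_self i₀ (0 : Fin m → F)]
  obtain ⟨c, hc⟩ : ∃ c, Cfsg.quadFormMinus m F a b (vec3 x' e₁ z) = c := ⟨_, rfl⟩
  by_cases hc0 : c = 0
  · -- singular case
    obtain ⟨i₂, h02, h12⟩ := exists_third hm i₀ i₁
    set e₂ : Fin m → F := Pi.single i₂ 1 with he₂
    have he20 : e₂ i₀ = 0 := Pi.single_eq_of_ne h02 1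
    set a' : Idx m 2 → F := vec3 0 e₂ 0 with ha'
    obtain ⟨s, hs⟩ := exists_omega_E (qnd hab) (five_le hm) (u := u) (a := a') (by simp [hu, qf_vec3])
      (by simp [hu, ha', polar_vec3])
    have hsb : (omv s : Matrix _ _ F) *ᵥ bpt i₀ = bpt i₀ := by
      rw [hs, hu, ha', bpt, polar_vec3, polar_vec3]
      simp [he₁, he₂, h01', h02]
    have hsv : red i₀ ((omv s : Matrix _ _ F) *ᵥ red i₀ (vec3 e₂ 0 0)) = red i₀ (vec3 e₂ (-e₁) 0) := by
      rw [hr e₂ 0 he20, hs, hu, ha', polar_vec3, polar_vec3, qf_vec3]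
      congr 1
      funext q
      rcases q with (q | q) | q <;> simp [vec3, he₁, he₂, Pi.single_apply, h12.symm]
    have hstep := rank_of_pconj hab hm i₀ ψ ρ ⟨s, hsb, hsv⟩
    obtain ⟨x₁, hx₁, hx₁Q, hl₁⟩ := rank_lead hab hm i₀ ψ ρ i₁ h01 (0 : Fin 2 → F) (x := e₂) (y := -e₁) he20
      (by simp [he10]) (by simp [he₁])
    have e0 : eU hab hm ψ ρ i₀ (vec3 e₂ 0 0) = 0 := case_x hab hm ψ hψ ρ i₀ hV hX' he20 (by simp [he₂])
    rw [rank_shift hab hm i₀ ψ ρ i₁ h01 hx1 hx₁ (z' := 0) (by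
      rw [hc, hc0, qf_vec3]
      simp [hx₁Q, he₁, he₂, h12]), ← hl₁, ← hstep, e0, LinearMap.range_zero, finrank_bot]
  · -- nonsingular case
    obtain ⟨z₀, hz₀⟩ := norm_surj hab c
    have hz0 : z₀ ≠ 0 := fun e => hc0 (by rw [← hz₀, e]; simp)
    have hPz : pMat a b *ᵥ z₀ ≠ 0 := fun e => hz0
      ((mulVec_injective_iff_isUnit.2 ((isUnit_iff_isUnit_det _).2 (pMat_unit hab))) (by rw [e, mulVec_zero]))
    obtain ⟨k, hk⟩ := Function.ne_iff.1 hPz
    set t : Fin 2 → F := Pi.single k (-1 / (pMat a b *ᵥ z₀) k) with ht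
    have hzt : z₀ ⬝ᵥ pMat a b *ᵥ t = -1 := by
      rw [dotProduct_mulVec, ← mulVec_transpose, pMat_symm, dotProduct_comm, ht, single_dotProduct,
        div_mul_cancel₀ _ hk]
    set a' : Idx m 2 → F := vec3 (0 : Fin m → F) (0 : Fin m → F) t with ha'
    obtain ⟨s, hs⟩ := exists_omega_E (qnd hab) (five_le hm) (u := u) (a := a') (by simp [hu, qf_vec3])
      (by simp [hu, ha', polar_vec3])
    have hsb : (omv s : Matrix _ _ F) *ᵥ bpt i₀ = bpt i₀ := by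
      rw [hs, hu, ha', bpt, polar_vec3, polar_vec3]
      simp [he₁, h01']
    have hsv : red i₀ ((omv s : Matrix _ _ F) *ᵥ red i₀ (vec3 (0 : Fin m → F) 0 z₀)) =
        red i₀ (vec3 (0 : Fin m → F) e₁ z₀) := by
      rw [hr 0 z₀ rfl, hs, hu, ha', polar_vec3, polar_vec3, hzt]
      congr 1
      funext q
      rcases q with (q | q) | q <;> simp [vec3]
    have hstep := rank_of_pconj hab hm i₀ ψ ρ ⟨s, hsb, hsv⟩
    rw [rank_shift hab hm i₀ ψ ρ i₁ h01 hx1 (x' := 0) rfl (z' := z₀) (by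
      rw [hc, qf_vec3, hz₀]; simp), ← hstep,
      case_z hab hm ψ hψ ρ i₀ hA hX (x := 0) rfl hz0, LinearMap.range_zero, finrank_bot]

end Small

section Kernel

variable (hab : ∀ z₁ z₂ : F, z₁ ^ 2 + a * z₁ * z₂ + b * z₂ ^ 2 = 0 → z₁ = 0 ∧ z₂ = 0) (hm : 3 ≤ m)
  {V : Type*} [AddCommGroup V] [Module ℂ V]
  (ρ : Representation ℂ (Om F m a b) V)
include hab hm

/-- A representation killing an element of the centre of the radical is trivial. -/
theorem trivial_of_el {i₀ i₁ : Fin m} (h01 : i₁ ≠ i₀)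
    (h : ρ (el a b hm 0 (vecMulVec (Pi.single i₁ 1) (Pi.single i₀ 1))) = 1) (g : Om F m a b) : ρ g = 1 := by
  classical
  haveI hs : IsSimpleGroup (Cfsg.POmega F (Cfsg.quadFormMinus m F a b)) := pomega_isSimple (qnd hab) (five_le hm)
  obtain ⟨i₂, h02, h12⟩ := exists_third hm i₀ i₁
  set α : Fin m → F := Pi.single i₁ 1 with hα
  set y : Om F m a b := el a b hm 0 (vecMulVec α (Pi.single i₀ 1)) with hy
  have hker : y ∈ ρ.ker := MonoidHom.mem_ker.2 h
  have hnc : y ∉ Subgroup.center (Om F m a b) := by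
    intro hc
    set g₂ := trv (F := F) h02.symm 1 with hg₂
    have h1 := Subgroup.mem_center_iff.1 hc (le a b hm g₂)
    rw [hy, le_mul_el] at h1
    have h2 := mul_right_cancel h1
    have h3 : (elMat a b _ _ : Matrix (Idx m 2) (Idx m 2) F) = elMat a b _ _ :=
      congrArg (fun v : Om F m a b => v.1.1.1) h2
    have h4 := congrFun (congrFun h3 (.inl (.inl i₁))) (.inl (.inr i₂))
    simp [elMat, blk3, aBlk, hg₂, trv_val, hα, Matrix.mul_apply, vecMulVec_apply, single_apply, Matrix.one_apply,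
      transvection, Pi.single_apply, h01, h12, h02.symm, h12.symm, h01.symm, add_mul, mul_add,
      Finset.sum_add_distrib] at h4
    simp [trv, transvection, single_apply, Matrix.one_apply, h01, h12, h02.symm, h12.symm, h01.symm, h02] at h4
  have htop : ρ.ker = ⊤ := eq_top_of_normal (omega_perfect (qnd hab) (five_le hm)) hker hnc
  exact MonoidHom.mem_ker.1 (htop ▸ Subgroup.mem_top g)

end Kernel

section Trivial

variable (hab : ∀ z₁ z₂ : F, z₁ ^ 2 + a * z₁ * z₂ + b * z₂ ^ 2 = 0 → z₁ = 0 ∧ z₂ = 0) (hm : 3 ≤ m)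
  (ψ : AddChar F ℂ) (hψ : ψ.IsPrimitive) {V : Type*} [AddCommGroup V] [Module ℂ V] [FiniteDimensional ℂ V]
  (ρ : Representation ℂ (Om F m a b) V)
  (hV : finrank ℂ V < Fintype.card F ^ (2 * m))
  (hA : ∀ B, B ≠ 0 → finrank ℂ (LinearMap.range (eZ hm ψ ρ B)) < 2 * Fintype.card F ^ 2)
  (hX : ∀ w, ρ (el a b hm w 0) * eZ hm ψ ρ 0 = eZ hm ψ ρ 0)
  (hX' : ∀ g, ρ (le a b hm g) * eZ hm ψ ρ 0 = eZ hm ψ ρ 0)
include hab hm hψ hV hA hX hX'

/-- If all hypotheses hold the representation is trivial. -/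
theorem trivial_of_small (g : Om F m a b) : ρ g = 1 := by
  obtain ⟨i₀, i₁, h01⟩ : ∃ i₀ i₁ : Fin m, i₁ ≠ i₀ := ⟨⟨0, by omega⟩, ⟨1, by omega⟩, by simp⟩
  refine trivial_of_el hab hm ρ h01 ?_ g
  rw [← pel_el_z hab hm i₀ (Pi.single_eq_of_ne h01.symm (1 : F))]
  exact pel_eq_one_of_eU hab hm ψ ρ hψ i₀ (eU_vanish hab hm ψ hψ ρ hV hA hX hX' i₀) _

end Trivial

end CfsgLib.Classical.WeilOmega
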