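/-
The dimension count for the representations of the orthogonal groups of minus type.
-/
import Cfsg.Agent.Lib.Classical.WeilOmega.NoSmall

set_option autoImplicit false

namespace CfsgLib.Classical.WeilOmega

open Matrix Module CfsgLib.LinDeg CfsgLib.Classical.WeilSU CfsgLib.Perm.Trans CfsgLib.Perm.Trans.Quad

theorem target_eq {q m : ℕ} (hq : 2 ≤ q) (hm : 3 ≤ m) :
    (q ^ (m + 1) + 1) * (q ^ m - q) = q ^ 2 * ((q ^ m - 1) * (q ^ (m - 1) - 1)) + (q + 1) * (q ^ m - q) := by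
  obtain ⟨j, rfl⟩ : ∃ j, m = j + 1 := ⟨m - 1, by omega⟩
  have hA : 1 ≤ q ^ j := Nat.one_le_pow _ _ (by omega)
  have h1 : q ≤ q ^ (j + 1) := Nat.le_self_pow (by omega) q
  have h2 : 1 ≤ q ^ (j + 1) := by omega
  zify [hA, h1, h2, show 1 ≤ q ^ (j + 1 - 1) from by rw [Nat.add_sub_cancel]; exact hA]
  rw [Nat.add_sub_cancel]
  ring

theorem extra_le {q m : ℕ} (hq : 2 ≤ q) (hm : 3 ≤ m) :
    (q + 1) * (q ^ m - q) ≤ q ^ 2 * ((q ^ m - 1) * (q ^ (m - 1) - 1)) := by
  have h2 : q ^ 1 < q ^ (m - 1) := Nat.pow_lt_pow_right (by omega) (by omega)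
  rw [pow_one] at h2
  calc (q + 1) * (q ^ m - q) ≤ q ^ 2 * (q ^ m - 1) := Nat.mul_le_mul (by nlinarith) (by omega)
    _ ≤ q ^ 2 * ((q ^ m - 1) * (q ^ (m - 1) - 1)) := Nat.mul_le_mul_left _ (Nat.le_mul_of_pos_right _ (by omega))

theorem target_le_pow {q m : ℕ} (hq : 2 ≤ q) (hm : 3 ≤ m) :
    (q ^ (m + 1) + 1) * (q ^ m - q) ≤ (q ^ 2 - 1) * q ^ (2 * m) := by
  have hA : 1 ≤ q ^ m := Nat.one_le_pow _ _ (by omega)
  calc (q ^ (m + 1) + 1) * (q ^ m - q) ≤ (q ^ (m + 1) + q ^ m) * q ^ m :=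
        Nat.mul_le_mul (by omega) (Nat.sub_le _ _)
    _ = (q + 1) * q ^ (2 * m) := by ring
    _ ≤ (q ^ 2 - 1) * q ^ (2 * m) := by
        refine Nat.mul_le_mul_right _ ?_
        have : q + 2 ≤ q ^ 2 := by nlinarith
        omega

variable {F : Type*} [Field F] [Fintype F] {m : ℕ} {a b : F}
variable (hab : ∀ z₁ z₂ : F, z₁ ^ 2 + a * z₁ * z₂ + b * z₂ ^ 2 = 0 → z₁ = 0 ∧ z₂ = 0) (hm : 3 ≤ m)
  (ψ : AddChar F ℂ) (hψ : ψ.IsPrimitive) {V : Type*} [AddCommGroup V] [Module ℂ V] [FiniteDimensional ℂ V]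
  (ρ : Representation ℂ (Om F m a b) V)
include hψ

/-- A nontrivial translation part gives an orbit of characters on the fixed space of the centre. -/
theorem rank_of_moved (h : ∃ w, ρ (el a b hm w 0) * eZ hm ψ ρ 0 ≠ eZ hm ψ ρ 0) :
    Fintype.card F ^ m - 1 ≤ finrank ℂ (LinearMap.range (eZ hm ψ ρ 0)) := by
  classical
  set E := eZ hm ψ ρ 0 with hE
  have hEE : E * E = E := by rw [hE, eZ_mul hm ψ ρ hψ, if_pos rfl]
  have hc : ∀ w, ρ (el a b hm w 0) * E = E * ρ (el a b hm w 0) := fun w => el_mul_eZ hm ψ ρ w 0 0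
  obtain ⟨r, v₁, hv₁⟩ : ∃ (r : Fin 2) (v : Fin m → F),
      ρ (el a b hm (vecMulVec (Pi.single r 1) v) 0) * E ≠ E := by
    by_contra hall
    push Not at hall
    obtain ⟨w, hw⟩ := h
    apply hw
    have e : w = vecMulVec (Pi.single 0 1) (w 0) + vecMulVec (Pi.single 1 1) (w 1) := by
      ext i j; fin_cases i <;> simp [vecMulVec_apply]
    rw [e, el_add_on hm ψ ρ hEE hc _ _ (by rw [pr_zero]), mul_assoc, hall, hall]
  set τ : (Fin m → F) → Module.End ℂ V :=
    fun v => ρ (el a b hm (vecMulVec (Pi.single r 1) v) 0) * E + (1 - E) with hτ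
  have hE1 : E * (1 - E) = 0 := by rw [mul_sub, mul_one, hEE, sub_self]
  have h1E : (1 - E) * E = 0 := by rw [sub_mul, one_mul, hEE, sub_self]
  have h11 : (1 - E) * (1 - E) = 1 - E := by rw [sub_mul, one_mul, hE1, sub_zero]
  have h0 : τ 0 = 1 := by
    simp only [hτ]
    rw [show vecMulVec (Pi.single r 1) (0 : Fin m → F) = 0 from by ext; simp [vecMulVec_apply],
      el_zero, map_one, one_mul]
    abel
  have hadd : ∀ u v, τ (u + v) = τ u * τ v := fun u v => by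
    simp only [hτ]
    rw [vecMulVec_add, el_add_on hm ψ ρ hEE hc _ _ (by rw [pr_zero]), add_mul, mul_add, mul_add,
      mul_assoc _ E (1 - E), hE1, mul_zero, h11, ← mul_assoc (1 - E), mul_assoc _ E (ρ _ * E), ← mul_assoc E,
      ← hc, mul_assoc _ E E, hEE, ← mul_assoc, mul_assoc (1 - E) _ E, hc, ← mul_assoc (1 - E), h1E, zero_mul,
      add_zero, zero_add]
  set e := eigProj ψ τ with he
  have hcompl : ∀ w, e w * (1 - E) = if w = 0 then 1 - E else 0 := fun w => by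
    have hv : ∀ v, τ v * (1 - E) = 1 - E := fun v => by
      simp only [hτ]
      rw [add_mul, mul_assoc, hE1, mul_zero, zero_add, h11]
    simp only [he, eigProj, smul_mul_assoc, Finset.sum_mul, hv, ← Finset.sum_smul, smul_smul]
    split_ifs with hw
    · subst hw
      simp [dotProduct_zero, inv_mul_cancel₀ (card_fun_ne_zero (m := m) hK)]
    · rw [show (fun v : Fin m → F => ψ (-(v ⬝ᵥ w))) = fun v => ψ (v ⬝ᵥ (-w)) by funext v; rw [dotProduct_neg],
        sum_char_dot ψ hψ (neg_ne_zero.2 hw)]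
      simp
  -- a nonzero character occurs
  obtain ⟨w₀, hw₀0, hw₀⟩ : ∃ w, w ≠ 0 ∧ e w ≠ 0 := by
    by_contra hall
    push Not at hall
    apply hv₁
    have h2 : τ v₁ = 1 := by
      rw [eq_sum_eigProj ψ hψ τ h0 hadd hK]
      refine Eq.trans (Finset.sum_congr rfl fun w _ => ?_) (sum_eigProj ψ hψ τ h0 hK)
      by_cases hw : w = 0
      · subst hw; simp
      · rw [← he, hall w hw, smul_zero]
    have h3 := congrArg (· * E) h2
    simp only [hτ, add_mul, one_mul, mul_assoc, hEE, h1E, add_zero] at h3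
    exact h3
  have hne : ∀ w, w ≠ 0 → e w ≠ 0 := by
    intro w hw
    obtain ⟨g, hgd, hg⟩ := exists_det_one_mulVec (by omega) hw hw₀0
    set G : SpecialLinearGroup (Fin m) F := ⟨gᵀ, by rw [det_transpose, hgd]⟩ with hG
    have hτG : ∀ v, ρ (le a b hm G) * τ v = τ (G.1 *ᵥ v) * ρ (le a b hm G) := fun v => by
      have hleE : ρ (le a b hm G) * E = E * ρ (le a b hm G) := by
        have := le_mul_eZ hm ψ ρ G 0
        rwa [Matrix.mul_zero, Matrix.zero_mul] at this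
      simp only [hτ]
      rw [mul_add, add_mul, mul_sub, mul_one, sub_mul, one_mul, hleE, ← mul_assoc, ← map_mul, le_mul_el,
        map_mul, Matrix.mul_zero, Matrix.zero_mul, vecMulVec_mul, vecMul_transpose, mul_assoc, hleE, ← mul_assoc]
    have hbij : Function.Bijective fun v : Fin m → F => G.1 *ᵥ v :=
      Finite.injective_iff_bijective.1 (mulVec_injective_iff_isUnit.2
        ((isUnit_iff_isUnit_det _).2 (by rw [G.2]; exact isUnit_one)))
    have hconj : ρ (le a b hm G) * e w₀ = e w * ρ (le a b hm G) :=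
      mul_eigProj_of_conj ψ τ hbij hτG fun v => by
        rw [dotProduct_comm, dotProduct_mulVec, ← mulVec_transpose, show G.1ᵀ = g.1 by rw [hG]; exact transpose_transpose _, hg,
          dotProduct_comm]
    intro hz
    rw [hz, zero_mul] at hconj
    exact hw₀ (((Group.isUnit (le a b hm G)).map ρ).mul_right_eq_zero.1 hconj)
  -- count
  have hsum := finrank_eq_sum_range e (eigProj_mul ψ hψ τ hadd hK) (sum_eigProj ψ hψ τ h0 hK)
  rw [← Finset.add_sum_erase _ _ (Finset.mem_univ (0 : Fin m → F))] at hsum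
  let e2 : Bool → Module.End ℂ V := fun o => bif o then E else 1 - E
  have hV := finrank_eq_sum_range e2 (by rintro (_ | _) (_ | _) <;> simp [e2, hEE, hE1, h1E, h11]) (by simp [e2])
  simp only [Fintype.sum_bool, e2, cond_true, cond_false] at hV
  have h0le : finrank ℂ (LinearMap.range (1 - E)) ≤ finrank ℂ (LinearMap.range (e 0)) := by
    conv_lhs => rw [show (1 - E) = e 0 * (1 - E) by rw [hcompl, if_pos rfl]]
    exact rank_mul_le _ _
  have hcount := Finset.card_nsmul_le_sum ((Finset.univ : Finset (Fin m → F)).erase 0)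
    (fun w => finrank ℂ (LinearMap.range (e w))) 1 fun w hw => rank_pos (hne w (Finset.ne_of_mem_erase hw))
  rw [Finset.card_erase_of_mem (Finset.mem_univ _), Finset.card_univ, Fintype.card_fun, Fintype.card_fin,
    smul_eq_mul, mul_one] at hcount
  omega

include hab in
/-- The reduction to the special linear group on the fixed space of the centre. -/
theorem core {g₀ : Om F m a b} (hg₀ : ρ g₀ ≠ 1) :
    (Fintype.card F ^ (m + 1) + 1) * (Fintype.card F ^ m - Fintype.card F) ≤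
        (Fintype.card F ^ 2 - 1) * finrank ℂ V ∨
      (Fintype.card F ^ 2 * ((Fintype.card F ^ m - 1) * (Fintype.card F ^ (m - 1) - 1)) +
          (Fintype.card F ^ 2 - 1) * finrank ℂ (LinearMap.range (eZ hm ψ ρ 0)) ≤
          (Fintype.card F ^ 2 - 1) * finrank ℂ V ∧
        ∃ g, ρ (le a b hm g) * eZ hm ψ ρ 0 ≠ eZ hm ψ ρ 0) := by
  classical
  set q := Fintype.card F with hq
  have hq2 : 2 ≤ q := Fintype.one_lt_card
  rcases dichotomy hm ψ ρ hψ hab with hbig | hwedge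
  · exact .inl ((target_le_pow hq2 hm).trans (Nat.mul_le_mul_left _ hbig))
  by_cases hV : q ^ (2 * m) ≤ finrank ℂ V
  · exact .inl ((target_le_pow hq2 hm).trans (Nat.mul_le_mul_left _ hV))
  push Not at hV
  set T : Finset (Matrix (Fin m) (Fin m) F) := Finset.univ.filter fun B => B ≠ 0 ∧ eZ hm ψ ρ B ≠ 0 with hT
  have hTm : ∀ {B}, B ∈ T ↔ B ≠ 0 ∧ eZ hm ψ ρ B ≠ 0 := fun {B} => by simp [hT]
  obtain ⟨B₀, hB₀⟩ : ∃ B, B ∈ T := by
    by_contra hemp
    push Not at hemp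
    apply hg₀
    have hz : ∀ B, B ≠ 0 → eZ hm ψ ρ B = 0 := fun B hB => by
      by_contra hE
      exact hemp B (hTm.2 ⟨hB, hE⟩)
    have h1 : eZ hm ψ ρ 0 = 1 := by
      rw [← sum_eZ hm ψ ρ hψ, Finset.sum_eq_single 0 (fun B _ hB => hz B hB) (by simp)]
    refine trivial_of_el hab hm ρ (i₀ := ⟨0, by omega⟩) (i₁ := ⟨1, by omega⟩) (by simp) ?_ g₀
    rw [← mul_one (ρ _), ← h1, el_zero_mul_eZ, pr_zero, AddChar.map_zero_eq_one, one_smul]
  obtain ⟨u, v, hB₀w⟩ := hwedge B₀ (hTm.1 hB₀).1 (hTm.1 hB₀).2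
  have hTc : ∀ g : SpecialLinearGroup (Fin m) F, ∀ B ∈ T, g.1ᵀ * B * g.1 ∈ T := fun g B hB => by
    refine hTm.2 ⟨fun e => (hTm.1 hB).1 ?_, eZ_congr_ne hm ψ ρ g (hTm.1 hB).2⟩
    have h1 := congrArg (fun X => (g⁻¹ : SpecialLinearGroup (Fin m) F).1ᵀ * X *
      (g⁻¹ : SpecialLinearGroup (Fin m) F).1) e
    simp only [Matrix.mul_zero, Matrix.zero_mul] at h1
    rw [← h1, ← Matrix.mul_assoc, ← Matrix.mul_assoc, ← transpose_mul, ← sl_mul_val, mul_inv_cancel, sl_one_val,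
      transpose_one, Matrix.one_mul, Matrix.mul_assoc, ← sl_mul_val, mul_inv_cancel, sl_one_val, Matrix.mul_one]
  have hTcard := card_rank_two hm T hTc (hB₀w ▸ hB₀) (hB₀w ▸ (hTm.1 hB₀).1)
  rw [← hq] at hTcard
  have h0T : (0 : Matrix (Fin m) (Fin m) F) ∉ T := fun h => (hTm.1 h).1 rfl
  have hall := sum_rank_eZ_le hm ψ ρ hψ (insert 0 T)
  rw [Finset.sum_insert h0T] at hall
  by_cases hA : ∀ B ∈ T, finrank ℂ (LinearMap.range (eZ hm ψ ρ B)) < 2 * q ^ 2
  · have hlow := Finset.card_nsmul_le_sum T (fun B => finrank ℂ (LinearMap.range (eZ hm ψ ρ B))) (q ^ 2)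
      fun B hB => rank_eZ_ge hm ψ ρ hψ hab (hTm.1 hB).1 (hTm.1 hB).2
    rw [smul_eq_mul] at hlow
    have hmain : q ^ 2 * ((q ^ m - 1) * (q ^ (m - 1) - 1)) +
        (q ^ 2 - 1) * finrank ℂ (LinearMap.range (eZ hm ψ ρ 0)) ≤ (q ^ 2 - 1) * finrank ℂ V := by
      refine le_trans ?_ (Nat.mul_le_mul_left _ hall)
      rw [Nat.mul_add, Nat.add_comm]
      refine Nat.add_le_add_left ?_ _
      refine le_trans ?_ (Nat.mul_le_mul_left _ hlow)
      rw [mul_comm T.card, mul_left_comm (q ^ 2 - 1)]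
      exact Nat.mul_le_mul_left _ hTcard
    by_cases hX : ∃ w, ρ (el a b hm w 0) * eZ hm ψ ρ 0 ≠ eZ hm ψ ρ 0
    · left
      have hx := rank_of_moved hm ψ hψ ρ hX
      rw [← hq] at hx
      rw [target_eq hq2 hm]
      refine le_trans (Nat.add_le_add_left ?_ _) hmain
      refine le_trans ?_ (Nat.mul_le_mul_left _ hx)
      exact Nat.mul_le_mul (by
        have : q + 2 ≤ q ^ 2 := by nlinarith
        omega) (by omega)
    · right
      refine ⟨hmain, ?_⟩
      push Not at hX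
      by_contra hX'
      push Not at hX'
      refine hg₀ (trivial_of_small hab hm ψ hψ ρ hV (fun B hB => ?_) hX hX' g₀)
      by_cases hE : eZ hm ψ ρ B = 0
      · rw [hE, LinearMap.range_zero, finrank_bot]; positivity
      · exact hA B (hTm.2 ⟨hB, hE⟩)
  · push Not at hA
    obtain ⟨B₁, hB₁, hbig⟩ := hA
    have hlow := Finset.card_nsmul_le_sum T (fun B => finrank ℂ (LinearMap.range (eZ hm ψ ρ B))) (2 * q ^ 2)
      fun B hB => by
        obtain ⟨u₁, v₁, e₁⟩ := hwedge B₁ (hTm.1 hB₁).1 (hTm.1 hB₁).2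
        obtain ⟨u₂, v₂, e₂⟩ := hwedge B (hTm.1 hB).1 (hTm.1 hB).2
        obtain ⟨g, hg⟩ := wedge_orbit hm ψ hψ hab (u := u₁) (v := v₁) (u' := u₂) (v' := v₂) (e₁ ▸ (hTm.1 hB₁).1)
          (e₂ ▸ (hTm.1 hB).1)
        rwa [e₂, ← hg, rank_eZ_congr hm ψ ρ, ← e₁]
    rw [smul_eq_mul] at hlow
    left
    refine le_trans ?_ (Nat.mul_le_mul_left _ ((le_trans (Nat.le_add_left _ _) hall).trans' hlow))
    rw [target_eq hq2 hm, show (q ^ 2 - 1) * (T.card * (2 * q ^ 2)) = q ^ 2 * ((q ^ 2 - 1) * T.card) +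
      q ^ 2 * ((q ^ 2 - 1) * T.card) by ring]
    exact Nat.add_le_add (Nat.mul_le_mul_left _ hTcard)
      ((extra_le hq2 hm).trans (Nat.mul_le_mul_left _ hTcard))

end CfsgLib.Classical.WeilOmega
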