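/-
The Levi factor on the fixed space of the centre of the radical.
-/
import Cfsg.Agent.Lib.Classical.WeilOmega.Bound
import Cfsg.Agent.Lib.LinDeg.Bound

set_option autoImplicit false

namespace CfsgLib.Classical.WeilOmega

open Matrix Module CfsgLib.LinDeg CfsgLib.Classical.WeilSU CfsgLib.Perm.Trans CfsgLib.Perm.Trans.Quad

/-- The representation on the range of a commuting idempotent. -/
noncomputable def onRange {G : Type*} [Group G] {V : Type*} [AddCommGroup V] [Module ℂ V]
    (π : Representation ℂ G V) (E : Module.End ℂ V) (hc : ∀ g, π g * E = E * π g) :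
    Representation ℂ G (LinearMap.range E) where
  toFun g := (π g).restrict (p := LinearMap.range E) (q := LinearMap.range E) fun x hx => by
    obtain ⟨y, rfl⟩ := hx
    exact ⟨π g y, by rw [← Module.End.mul_apply, ← hc, Module.End.mul_apply]⟩
  map_one' := LinearMap.ext fun x => Subtype.ext (by simp)
  map_mul' g h := LinearMap.ext fun x => Subtype.ext (by simp)

theorem mul_eq_of_onRange {G : Type*} [Group G] {V : Type*} [AddCommGroup V] [Module ℂ V]
    (π : Representation ℂ G V) (E : Module.End ℂ V) (hc : ∀ g, π g * E = E * π g) {g : G}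
    (h : onRange π E hc g = 1) : π g * E = E := by
  refine LinearMap.ext fun x => ?_
  exact congrArg Subtype.val (LinearMap.congr_fun h ⟨E x, x, rfl⟩)

theorem geo_arith {q n m : ℕ} (hq : 2 ≤ q) (h : geo q m ≤ n + 1) : q ^ m - q ≤ (q - 1) * n := by
  have h1 := geo_mul_pred q m (by omega)
  have h2 := Nat.mul_le_mul_right (q - 1) h
  rw [Nat.add_mul, one_mul, mul_comm n] at h2
  omega

variable {F : Type*} [Field F] [Fintype F] {m : ℕ} {a b : F}

theorem levi_bounds (hm : 3 ≤ m) (ψ : AddChar F ℂ) {V : Type} [AddCommGroup V] [Module ℂ V]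
    [FiniteDimensional ℂ V] (ρ : Representation ℂ (Om F m a b) V)
    (h : ∃ g, ρ (le a b hm g) * eZ hm ψ ρ 0 ≠ eZ hm ψ ρ 0) :
    (¬ (Fintype.card F = 3 ∧ m = 4) → ¬ (Fintype.card F = 2 ∧ m ≤ 4) →
      Fintype.card F ^ m - Fintype.card F ≤
        (Fintype.card F - 1) * finrank ℂ (LinearMap.range (eZ hm ψ ρ 0))) ∧
      Fintype.card F ^ (m - 1) - 1 ≤ finrank ℂ (LinearMap.range (eZ hm ψ ρ 0)) := by
  classical
  obtain ⟨j, rfl⟩ : ∃ j, m = j + 1 := ⟨m - 1, by omega⟩
  set E := eZ hm ψ ρ 0 with hE
  have hq : 2 ≤ Fintype.card F := Fintype.one_lt_card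
  have hc : ∀ g, ρ (le a b hm g) * E = E * ρ (le a b hm g) := fun g => by
    have := le_mul_eZ hm ψ ρ g 0
    rwa [Matrix.mul_zero, Matrix.zero_mul] at this
  set σ := onRange (G := SpecialLinearGroup (Fin (j + 1)) F) (ρ.comp (le a b hm)) E hc with hσ
  have htr : ∀ {x : SpecialLinearGroup (Fin (j + 1)) F}, IsTransv x.1 → σ x ≠ 1 := by
    intro x hx hx1
    obtain ⟨g, hg⟩ := h
    apply hg
    have htop := eq_top_of_transv (by omega) σ.ker hx (MonoidHom.mem_ker.2 hx1)
    exact mul_eq_of_onRange (ρ.comp (le a b hm)) E hc (MonoidHom.mem_ker.1 (htop ▸ Subgroup.mem_top g) : σ g = 1)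
  set v : Fin j → F := fun _ => 1 with hv
  have hv0 : v ≠ 0 := fun h => one_ne_zero (congrFun h ⟨0, by omega⟩)
  obtain ⟨n, τ, hτ, hτ1, hn⟩ := exists_irr_ne_one σ (htr (uSL_isTransv hv0))
  haveI := hτ
  refine ⟨fun h34 h2 => ?_, ?_⟩
  · by_cases hchar : (2 : F) = 0
    · -- all of the general linear group lies in the group
      haveI : CharP F 2 := CharTwo.of_one_ne_zero_of_two_eq_zero one_ne_zero hchar
      have hmem : ∀ g : GL (Fin (j + 1)) F,
          leI a b g ∈ Cfsg.Omega F (Cfsg.quadFormMinus (j + 1) F a b) := by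
        intro g
        obtain ⟨c, hc2⟩ := FiniteField.isSquare_of_char_two (ringChar.eq F 2) (g.1.det)
        have hc0 : c ≠ 0 := fun e => g.det.ne_zero (by
          rw [Matrix.GeneralLinearGroup.val_det_apply, hc2, e, zero_mul])
        set d := diagGL (F := F) (⟨0, by omega⟩ : Fin (j + 1)) (Units.mk0 c hc0 * Units.mk0 c hc0) with hd
        have hdd : d.1.det = g.1.det := by
          rw [hc2, hd]
          show (diagonal _).det = _
          rw [det_diagonal, Finset.prod_update_of_mem (Finset.mem_univ _)]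
          simp
        have hs : (d⁻¹ * g : GL (Fin (j + 1)) F).1.det = 1 := by
          rw [Units.val_mul, det_mul, ← hdd, ← det_mul, ← Units.val_mul, inv_mul_cancel]
          simp
        have e : g = d * SpecialLinearGroup.toGL ⟨_, hs⟩ := by
          refine Units.ext ?_
          show g.1 = d.1 * (d⁻¹ * g).1
          rw [← Units.val_mul, mul_inv_cancel_left]
        rw [e, map_mul]
        exact mul_mem (leI_diag_sq_mem a b _ _) (leI_sl_mem a b hm _)
      set leG := (leI a b).codRestrict (Cfsg.Omega F (Cfsg.quadFormMinus (j + 1) F a b)) hmem with hleG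
      have hcG : ∀ g, ρ (leG g) * E = E * ρ (leG g) := by
        intro g
        refine mul_eigProj_of_conj ψ _ (f := fun w => unmat (g.1 * mat w * g.1ᵀ)) ?_ (fun w => ?_) fun w => ?_
        · refine Finite.injective_iff_bijective.1 fun u w e => ?_
          have h1 := congrArg (fun X => (g⁻¹).1 * mat X * (g⁻¹).1ᵀ) e
          have e1 : ∀ X : Matrix (Fin (j + 1)) (Fin (j + 1)) F, (g⁻¹).1 * (g.1 * X * g.1ᵀ) * (g⁻¹).1ᵀ = X :=
            fun X => by
              rw [← Matrix.mul_assoc, ← Matrix.mul_assoc, Matrix.mul_assoc _ g.1ᵀ, ← transpose_mul, ← Units.val_mul,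
                inv_mul_cancel, Units.val_one, transpose_one, Matrix.mul_one, Matrix.one_mul]
          simp only [mat_unmat, e1] at h1
          rw [← unmat_mat u, ← unmat_mat w, h1]
        · simp only [tauZ, mat_unmat]
          rw [← map_mul, ← map_mul]
          congr 1
          refine (leI_mul_el a b hm (hmem g) 0 (mat w)).trans ?_
          rw [Matrix.zero_mul]
          rfl
        · rw [show unmat (0 : Matrix (Fin (j + 1)) (Fin (j + 1)) F) = 0 from rfl, dotProduct_zero, dotProduct_zero]
      let π : GL (Fin (j + 1)) F →* Module.End ℂ (LinearMap.range E) :=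
        onRange (G := GL (Fin (j + 1)) F) (ρ.comp leG) E hcG
      have hπ : π (xTV (by omega : 2 ≤ j + 1) 1) ≠ 1 := by
        intro e
        refine htr (x := ⟨_, det_xTV (F := F) (by omega : 2 ≤ j + 1) 1⟩) (xTV_isTransv _) ?_
        rw [← e]
        refine LinearMap.ext fun y => Subtype.ext ?_
        show ρ (le a b hm _) y.1 = ρ (leG _) y.1
        congr 2
        exact Subtype.ext (congrArg (leI a b) (Units.ext rfl))
      have hb := gl_bound j (by omega) (fun ⟨h5, h6⟩ => h2 ⟨h5, by omega⟩) π hπ
      exact geo_arith hq hb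
    · have hodd : Fintype.card F ≠ 2 ∧ Fintype.card F ≠ 4 := by
        constructor <;> intro e <;> apply hchar
        · have h1 := Nat.cast_card_eq_zero F
          rw [e] at h1
          exact_mod_cast h1
        · have h1 := Nat.cast_card_eq_zero F
          rw [e] at h1
          have h4 : (2 : F) * 2 = 0 := by exact_mod_cast h1
          exact (mul_self_eq_zero.1 h4)
      have hb := sl_bound (m := j) (by omega) (fun e => hodd.1 e.1) (fun e => h34 ⟨e.1, by omega⟩)
        (fun e => hodd.2 e.1) τ ⟨v, hτ1⟩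
      exact (geo_arith hq hb).trans (Nat.mul_le_mul_left _ hn)
  · obtain ⟨φ, hφ⟩ := exists_primitiveChar F ℂ (by
      rw [ringChar.eq_zero]
      exact fun h => CharP.ringChar_ne_zero_of_finite F h.symm)
    have hj : 2 ≤ j := by omega
    have hd := (slMirab F j).finrank_eq τ φ hφ hK hj
    have hp := (slMirab F j).mult_pos τ φ hφ hK hj ⟨v, hτ1⟩
    rw [Module.finrank_fin_fun] at hd
    rw [Nat.add_sub_cancel]
    have h3 : 1 * (Fintype.card F ^ j - 1) ≤ (slMirab F j).mult τ φ * (Fintype.card F ^ j - 1) :=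
      Nat.mul_le_mul_right _ hp
    omega

end CfsgLib.Classical.WeilOmega
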