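/-
The fixed space of the centre for the eight-dimensional group over two elements.
-/
import Cfsg.Agent.Lib.Classical.WeilOmega.Levi
import Cfsg.Agent.Lib.Orth.Omega
import Cfsg.Agent.Lib.Char.Basic
import Cfsg.Agent.Lib.LinDeg.Constituent

set_option autoImplicit false

namespace CfsgLib.Classical.WeilOmega

open Matrix Module CfsgLib.LinDeg CfsgLib.Classical.WeilSU CfsgLib.Perm.Trans CfsgLib.Perm.Trans.Quad

variable {F : Type*} [Field F] [Fintype F] (hF : Fintype.card F = 2)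
include hF

theorem two_zero : (2 : F) = 0 := by
  have h := Nat.cast_card_eq_zero F
  rw [hF] at h
  exact_mod_cast h

theorem zero_or_one (x : F) : x = 0 ∨ x = 1 := by
  classical
  by_contra h
  push Not at h
  have h1 := Finset.card_le_univ ({0, 1, x} : Finset F)
  rw [hF, Finset.card_insert_of_notMem (by simp [h.1.symm]), Finset.card_pair (Ne.symm h.2)] at h1
  omega

theorem coeff_one {a b : F} (hab : ∀ z₁ z₂ : F, z₁ ^ 2 + a * z₁ * z₂ + b * z₂ ^ 2 = 0 → z₁ = 0 ∧ z₂ = 0) :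
    a = 1 ∧ b = 1 := by
  have h2 := two_zero hF
  rcases zero_or_one hF b with hb | hb
  · exact absurd (hab 0 1 (by rw [hb]; ring)).2 one_ne_zero
  rcases zero_or_one hF a with ha | ha
  · exact absurd (hab 1 1 (by rw [ha, hb]; linear_combination h2)).1 one_ne_zero
  exact ⟨ha, hb⟩

theorem neg_eq (x : F) : -x = x := by linear_combination -x * two_zero hF

/-- The ring map from the prime field. -/
theorem exists_cast : ∃ φ : ZMod 2 →+* F, True := by
  haveI : CharP F 2 := CharTwo.of_one_ne_zero_of_two_eq_zero one_ne_zero (two_zero hF)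
  exact ⟨ZMod.castHom dvd_rfl F, trivial⟩

variable {a b : F} (hab : ∀ z₁ z₂ : F, z₁ ^ 2 + a * z₁ * z₂ + b * z₂ ^ 2 = 0 → z₁ = 0 ∧ z₂ = 0)
include hab

/-- An element of the group interchanging the two isotropic halves. -/
theorem exists_swap : ∃ r : Om F 3 a b, ∀ g : SpecialLinearGroup (Fin 3) F,
    r * le a b le_rfl g = le a b le_rfl ⟨(g⁻¹ : SpecialLinearGroup (Fin 3) F).1ᵀ,
      by rw [det_transpose]; exact (g⁻¹).2⟩ * r := by
  classical
  obtain ⟨ha, hb⟩ := coeff_one hF hab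
  have h2 := two_zero hF
  set v : Fin 2 → F := ![1, 0] with hv
  have hN : v ⬝ᵥ nMat a b *ᵥ v = 1 := by rw [nMat_form]; simp [hv]
  let R : Cfsg.isometryGroup F (Cfsg.quadFormMinus 3 F a b) :=
    rotI a b _ _ (reflMat_sq a b v (by rw [hN]; exact one_ne_zero)) fun z => reflMat_form a b v z (by
      rw [hN]; exact one_ne_zero)
  have hQ := qnd (m := 3) hab
  have hex : Fintype.card F ≠ 2 ∨ Fintype.card (Idx 3 2) ≠ 4 := Or.inr (by simp)
  -- the reflections
  have hRr : IsRefl (Cfsg.quadFormMinus 3 F a b) (vec3 0 0 v) R.1 := fun p => by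
    obtain ⟨x, y, z, rfl⟩ := exists_vec3 p
    show blk3 1 0 0 0 1 0 0 0 _ *ᵥ _ = _
    rw [blk3_mulVec, qf_vec3, polar_vec3, reflMat_apply, hN]
    funext k
    rcases k with (k | k) | k
    · simp [vec3]
    · simp [vec3]
    · simp only [vec3, Pi.sub_apply, Pi.smul_apply, Sum.elim_inr, zero_mulVec, zero_add, dotProduct_zero, inv_one,
        one_mul]
      rw [dotProduct_mulVec z, ← mulVec_transpose, pMat_symm, dotProduct_comm (pMat a b *ᵥ z),
        dotProduct_comm (pMat a b *ᵥ v)]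
      congr 2
      rw [dotProduct_mulVec z, ← mulVec_transpose, pMat_symm, dotProduct_comm]
  have hSr : ∀ i : Fin 3, IsRefl (Cfsg.quadFormMinus 3 F a b) (vec3 (Pi.single i 1) (Pi.single i 1) 0)
      (swI a b i).1 := fun i p => by
    obtain ⟨x, y, z, rfl⟩ := exists_vec3 p
    show blk3 (1 - single i i 1) (single i i 1) 0 (single i i 1) (1 - single i i 1) 0 0 0 1 *ᵥ _ = _
    rw [blk3_mulVec, qf_vec3, polar_vec3]
    funext k
    rcases k with (k | k) | k
    · by_cases hk : k = i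
      · subst hk
        simp [vec3, sub_mulVec, single_mulVec]
        linear_combination (y k) * h2
      · simp [vec3, sub_mulVec, single_mulVec, hk]
    · by_cases hk : k = i
      · subst hk
        simp [vec3, sub_mulVec, single_mulVec]
        linear_combination (x k) * h2
      · simp [vec3, sub_mulVec, single_mulVec, hk]
    · simp [vec3]
  have hQS : ∀ i : Fin 3, Cfsg.quadFormMinus 3 F a b (vec3 (Pi.single i 1) (Pi.single i 1) 0) = 1 := fun i => by
    simp [qf_vec3]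
  have hQR : Cfsg.quadFormMinus 3 F a b (vec3 0 0 v) = 1 := by
    rw [qf_vec3, zero_dotProduct, zero_add, hN]
  have pair : ∀ {x y : Idx 3 2 → F} {r s : Cfsg.isometryGroup F (Cfsg.quadFormMinus 3 F a b)},
      Cfsg.quadFormMinus 3 F a b x = 1 → Cfsg.quadFormMinus 3 F a b y = 1 →
      IsRefl (Cfsg.quadFormMinus 3 F a b) x r.1 → IsRefl (Cfsg.quadFormMinus 3 F a b) y s.1 →
      r * s ∈ Cfsg.Omega F (Cfsg.quadFormMinus 3 F a b) := by
    intro x y r s hx hy hr hs
    obtain ⟨g, hg, e⟩ := CfsgLib.Orth.refl_conj hQ hex (by rw [hx]; exact one_ne_zero) (by rw [hy]; exact one_ne_zero)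
      (by rw [hx, hy]) hr hs
    have hrr : r⁻¹ = r := inv_eq_of_mul_eq_one_right (Subtype.ext
      (CfsgLib.Orth.refl_mul_self hQ hr (by rw [hx]; exact one_ne_zero)))
    have hs' : s = ⟨g, hg⟩ * r * ⟨g, hg⟩⁻¹ := Subtype.ext e
    have h := comm_mem a b r ⟨g, hg⟩
    rw [hrr] at h
    rw [hs', ← mul_assoc, ← mul_assoc]
    exact h
  let r : Om F 3 a b := ⟨swI a b 0 * swI a b 1 * (swI a b 2 * R),
    mul_mem (pair (hQS 0) (hQS 1) (hSr 0) (hSr 1)) (pair (hQS 2) hQR (hSr 2) hRr)⟩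
  refine ⟨r, fun g => Subtype.ext (iso_ext ?_)⟩
  have hr : r.1.1.1 = blk3 0 1 0 1 0 0 0 0 (reflMat a b v) := by
    show blk3 _ _ _ _ _ _ _ _ _ * blk3 _ _ _ _ _ _ _ _ _ * (blk3 _ _ _ _ _ _ _ _ _ * blk3 _ _ _ _ _ _ _ _ _) = _
    rw [blk3_mul, blk3_mul, blk3_mul]
    congr 1 <;> ext i j <;> fin_cases i <;> fin_cases j <;>
      simp [Matrix.mul_apply, Fin.sum_univ_three, Matrix.sub_apply, single_apply, Matrix.one_apply]
  show r.1.1.1 * blk3 g.1 0 0 0 ((SpecialLinearGroup.toGL g)⁻¹).1ᵀ 0 0 0 1 =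
    blk3 (g⁻¹ : SpecialLinearGroup (Fin 3) F).1ᵀ 0 0 0
      ((SpecialLinearGroup.toGL ⟨(g⁻¹ : SpecialLinearGroup (Fin 3) F).1ᵀ,
        by rw [det_transpose]; exact (g⁻¹).2⟩)⁻¹).1ᵀ 0 0 0 1 * r.1.1.1
  rw [hr, blk3_mul, blk3_mul]
  have e1 : ((SpecialLinearGroup.toGL g)⁻¹).1 = (g⁻¹ : SpecialLinearGroup (Fin 3) F).1 := by
    rw [← map_inv]; rfl
  have e2 : ((SpecialLinearGroup.toGL (⟨(g⁻¹ : SpecialLinearGroup (Fin 3) F).1ᵀ,
        by rw [det_transpose]; exact (g⁻¹).2⟩ : SpecialLinearGroup (Fin 3) F))⁻¹).1 = g.1ᵀ := by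
    rw [inv_eq_of_mul_eq_one_right (b := SpecialLinearGroup.toGL (⟨g.1ᵀ, by rw [det_transpose]; exact g.2⟩ :
      SpecialLinearGroup (Fin 3) F)) ?_]
    · rfl
    · refine Units.ext ?_
      show (g⁻¹ : SpecialLinearGroup (Fin 3) F).1ᵀ * g.1ᵀ = 1
      rw [← transpose_mul, ← sl_mul_val, mul_inv_cancel, sl_one_val, transpose_one]
  rw [e1, e2, transpose_transpose]
  simp

/-- An element of order seven is real and generates normally. -/
theorem exists_seven : ∃ c k : SpecialLinearGroup (Fin 3) F, c ^ 7 = 1 ∧ k * c * k⁻¹ = c ^ 2 ∧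
    (∃ r : Om F 3 a b, r * le a b le_rfl c * r⁻¹ = le a b le_rfl c⁻¹) ∧
    (∃ g, IsTransv (c * g * c * g⁻¹).1) ∧
    ∀ B : Matrix (Fin 3) (Fin 3) F, IsAlt B → c.1ᵀ * B * c.1 = B → B = 0 := by
  classical
  obtain ⟨φ, -⟩ := exists_cast hF
  let c₀ : SpecialLinearGroup (Fin 3) (ZMod 2) := ⟨!![0, 0, 1; 1, 0, 1; 0, 1, 0], by decide⟩
  let k₀ : SpecialLinearGroup (Fin 3) (ZMod 2) := ⟨!![0, 0, 1; 0, 1, 0; 1, 1, 1], by decide⟩
  let K₀ : SpecialLinearGroup (Fin 3) (ZMod 2) := ⟨!![0, 0, 1; 0, 1, 0; 1, 0, 1], by decide⟩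
  let g₀ : SpecialLinearGroup (Fin 3) (ZMod 2) := ⟨!![0, 0, 1; 0, 1, 0; 1, 0, 0], by decide⟩
  let ct₀ : SpecialLinearGroup (Fin 3) (ZMod 2) := ⟨c₀.1ᵀ, by decide⟩
  let t₀ : SpecialLinearGroup (Fin 3) (ZMod 2) := ⟨!![1, 0, 0; 1, 1, 0; 1, 0, 1], by decide⟩
  have p7 : c₀ ^ 7 = 1 := Subtype.ext (show c₀.1 ^ 7 = 1 by decide)
  have pk : k₀ * c₀ = c₀ ^ 2 * k₀ := Subtype.ext (show k₀.1 * c₀.1 = c₀.1 ^ 2 * k₀.1 by decide)
  have pK : K₀ * c₀ = ct₀ * K₀ := Subtype.ext (show K₀.1 * c₀.1 = ct₀.1 * K₀.1 by decide)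
  have pt : c₀ * g₀ * c₀ = t₀ * g₀ := Subtype.ext (show c₀.1 * g₀.1 * c₀.1 = t₀.1 * g₀.1 by decide)
  set Φ := SpecialLinearGroup.map (n := Fin 3) φ with hΦ
  refine ⟨Φ c₀, Φ k₀, by rw [← map_pow, p7, map_one], ?_, ?_, ⟨Φ g₀, ?_⟩, fun B hB hc => ?_⟩
  · rw [← map_mul, pk, map_mul, map_pow, mul_inv_cancel_right]
  · obtain ⟨r, hr⟩ := exists_swap hF hab
    refine ⟨le a b le_rfl (Φ K₀)⁻¹ * r, ?_⟩
    have e1 : ∀ x : SpecialLinearGroup (Fin 3) F, x.1 = ((Φ c₀)⁻¹ : SpecialLinearGroup (Fin 3) F).1ᵀ →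
        x = (Φ ct₀)⁻¹ := fun x hx => by
      suffices h : x * Φ ct₀ = 1 from eq_inv_of_mul_eq_one_left h
      refine Subtype.ext ?_
      show x.1 * (c₀.1ᵀ).map φ = 1
      rw [hx, transpose_map, ← transpose_mul, show c₀.1.map φ = (Φ c₀).1 from rfl, ← sl_mul_val, mul_inv_cancel,
        sl_one_val, transpose_one]
    have hrc : r * le a b le_rfl (Φ c₀) = le a b le_rfl (Φ ct₀)⁻¹ * r := by
      rw [hr]
      refine congrArg (fun y => le a b le_rfl y * r) ?_
      exact e1 _ rfl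
    refine mul_inv_eq_of_eq_mul ?_
    rw [mul_assoc, hrc, ← mul_assoc, ← mul_assoc, ← map_mul, ← map_mul]
    congr 2
    have hk : (Φ K₀ * Φ c₀)⁻¹ = (Φ ct₀ * Φ K₀)⁻¹ := by rw [← map_mul, pK, map_mul]
    rw [_root_.mul_inv_rev, _root_.mul_inv_rev] at hk
    exact hk.symm
  · rw [← map_inv, ← map_mul, ← map_mul, ← map_mul, pt, mul_inv_cancel_right]
    refine ⟨![0, 1, 1], ![1, 0, 0], fun e => one_ne_zero (α := F) (by simpa using congrFun e 1),
      fun e => one_ne_zero (α := F) (by simpa using congrFun e 0), by simp [dotProduct, Fin.sum_univ_three], ?_⟩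
    show t₀.1.map φ = _
    ext i j
    fin_cases i <;> fin_cases j <;> simp [t₀, vecMulVec_apply, Matrix.one_apply]
  · have hm : (Φ c₀).1 = !![0, 0, 1; 1, 0, 1; 0, 1, 0] := by
      show c₀.1.map φ = _
      ext i j
      fin_cases i <;> fin_cases j <;> simp [c₀]
    rw [hm] at hc
    have h01 := congrFun (congrFun hc 0) 1
    have h02 := congrFun (congrFun hc 0) 2
    have h12 := congrFun (congrFun hc 1) 2
    simp [Matrix.mul_apply, Fin.sum_univ_three] at h01 h02 h12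
    have a0 := hB.2 0
    have a1 := hB.2 1
    have a2 := hB.2 2
    have s01 := hB.1 0 1
    have s02 := hB.1 0 2
    have s12 := hB.1 1 2
    have h2 := two_zero hF
    ext i j
    fin_cases i <;> fin_cases j <;> simp <;> grind

omit hF hab in
/-- The fixed operators of a cyclic group of order seven. -/
theorem seven_count {G : Type*} [Group G] {V : Type*} [AddCommGroup V] [Module ℂ V] [FiniteDimensional ℂ V]
    (π : Representation ℂ G V) (E : Module.End ℂ V) (hE : E * E = E) (hc : ∀ g, π g * E = E * π g) {c : G}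
    (h7 : c ^ 7 = 1) {t : ℂ} (ht : IsIntegral ℤ t)
    (htr : ∀ i : Fin 7, i ≠ 0 → LinearMap.trace ℂ V (π (c ^ (i : ℕ)) * E) = t)
    (hx : finrank ℂ (LinearMap.range E) ≤ 5) : π c * E = E := by
  classical
  set S := ∑ i : Fin 7, π (c ^ (i : ℕ)) * E with hS
  set P := (7 : ℂ)⁻¹ • S with hP
  have hEproj : LinearMap.IsProj (LinearMap.range E) E :=
    ⟨fun x => ⟨x, rfl⟩, fun x hx => by obtain ⟨z, rfl⟩ := hx; rw [← Module.End.mul_apply, hE]⟩
  have hcS : π c * S = S := by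
    rw [hS, Finset.mul_sum]
    refine Fintype.sum_equiv (Equiv.addRight (1 : Fin 7)) _ _ fun i => ?_
    rw [← mul_assoc, ← map_mul, ← pow_succ']
    congr 2
    show c ^ ((i : ℕ) + 1) = c ^ (((i + 1 : Fin 7) : Fin 7) : ℕ)
    rw [Fin.val_add, Fin.val_one]
    exact pow_eq_pow_mod _ h7
  have hcP : π c * P = P := by rw [hP, mul_smul_comm, hcS]
  have hES : E * S = S := by
    rw [hS, Finset.mul_sum]
    exact Finset.sum_congr rfl fun i _ => by rw [← mul_assoc, ← hc, mul_assoc, hE]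
  have hSE : S * E = S := by
    rw [hS, Finset.sum_mul]
    exact Finset.sum_congr rfl fun i _ => by rw [mul_assoc, hE]
  have hpow : ∀ n : ℕ, π (c ^ n) * P = P := fun n => by
    induction n with
    | zero => rw [pow_zero, map_one, one_mul]
    | succ n ih => rw [pow_succ, map_mul, mul_assoc, hcP, ih]
  have hPP : P * P = P := by
    have h1 : S * P = (7 : ℂ) • P := by
      rw [hS, Finset.sum_mul]
      have : ∀ i : Fin 7, π (c ^ (i : ℕ)) * E * P = P := fun i => by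
        rw [mul_assoc, show E * P = P by rw [hP, mul_smul_comm, hES], hpow]
      simp only [this, Finset.sum_const, Finset.card_univ, Fintype.card_fin]
      rw [← Nat.cast_smul_eq_nsmul ℂ]
      norm_num
    nth_rewrite 1 [hP]
    rw [smul_mul_assoc, h1, smul_smul, inv_mul_cancel₀ (by norm_num : (7 : ℂ) ≠ 0), one_smul]
  have hPproj : LinearMap.IsProj (LinearMap.range P) P :=
    ⟨fun x => ⟨x, rfl⟩, fun x hx => by obtain ⟨z, rfl⟩ := hx; rw [← Module.End.mul_apply, hPP]⟩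
  have hle : LinearMap.range P ≤ LinearMap.range E := by
    rintro _ ⟨z, rfl⟩
    refine ⟨P z, ?_⟩
    rw [← Module.End.mul_apply, hP, mul_smul_comm, hES]
  have key : (7 : ℂ) * (finrank ℂ (LinearMap.range P) : ℂ) = (finrank ℂ (LinearMap.range E) : ℂ) + 6 * t := by
    rw [← hPproj.trace, ← hEproj.trace, hP, map_smul, smul_eq_mul, ← mul_assoc, mul_inv_cancel₀ (by norm_num),
      one_mul, hS, map_sum, Fin.sum_univ_succ, Finset.sum_congr rfl fun (i : Fin 6) _ => htr i.succ (Fin.succ_ne_zero i)]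
    simp
  set f := finrank ℂ (LinearMap.range P)
  set x := finrank ℂ (LinearMap.range E)
  have hfx : f ≤ x := Submodule.finrank_mono hle
  have hdiv : ((6 : ℕ) : ℤ) ∣ (7 * f - x : ℤ) := by
    refine dvd_of_isIntegral_div (by norm_num) ?_
    convert ht using 1
    push_cast
    linear_combination key / 6
  have hfe : f = x := by omega
  have heq : LinearMap.range P = LinearMap.range E := Submodule.eq_of_le_of_finrank_eq hle hfe
  have hPE : P * E = E := by
    refine LinearMap.ext fun z => ?_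
    exact hPproj.map_id _ (heq ▸ ⟨z, rfl⟩)
  calc π c * E = π c * (P * E) := by rw [hPE]
    _ = E := by rw [← mul_assoc, hcP, hPE]

/-- At least six dimensions in the fixed space for the eight-dimensional group over two elements. -/
theorem six_le (ψ : AddChar F ℂ) (hψ : ψ.IsPrimitive) {V : Type} [AddCommGroup V] [Module ℂ V]
    [FiniteDimensional ℂ V] (ρ : Representation ℂ (Om F 3 a b) V)
    (h : ∃ g, ρ (le a b le_rfl g) * eZ le_rfl ψ ρ 0 ≠ eZ le_rfl ψ ρ 0) :
    6 ≤ finrank ℂ (LinearMap.range (eZ le_rfl ψ ρ 0)) := by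
  classical
  by_contra hlt
  push Not at hlt
  obtain ⟨c, k, h7, hk, ⟨r, hr⟩, ⟨g, hg⟩, hfix⟩ := exists_seven hF hab
  set π : Representation ℂ (SpecialLinearGroup (Fin 3) F) V := ρ.comp (le a b le_rfl) with hπ
  set E := eZ le_rfl ψ ρ 0 with hE
  have hc : ∀ g, π g * E = E * π g := fun g => by
    have := le_mul_eZ le_rfl ψ ρ g 0
    rwa [Matrix.mul_zero, Matrix.zero_mul] at this
  have hEE : E * E = E := by rw [hE, eZ_mul le_rfl ψ ρ hψ, if_pos rfl]
  set A : SpecialLinearGroup (Fin 3) F → ℂ := fun g => LinearMap.trace ℂ V (π g * E) with hA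
  have hconj : ∀ g y, A (y * g * y⁻¹) = A g := fun g y => by
    simp only [hA]
    rw [map_mul π, map_mul π, mul_assoc, mul_assoc, hc y⁻¹, LinearMap.trace_mul_comm, mul_assoc (π g), mul_assoc E,
      ← map_mul, inv_mul_cancel, map_one, mul_one]
  have htot : ∀ g : SpecialLinearGroup (Fin 3) F, (∀ B, IsAlt B → g.1ᵀ * B * g.1 = B → B = 0) →
      ρ.character (le a b le_rfl g) = A g := by
    intro g hgB
    show LinearMap.trace ℂ V (ρ (le a b le_rfl g)) = _
    rw [← mul_one (ρ (le a b le_rfl g)), ← sum_eZ le_rfl ψ ρ hψ, Finset.mul_sum, map_sum]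
    refine Finset.sum_eq_single 0 (fun B _ hB0 => ?_) (by simp)
    by_cases hz : eZ le_rfl ψ ρ B = 0
    · rw [hz, mul_zero, map_zero]
    have hBa := isAlt_of_eZ le_rfl ψ ρ hψ hz
    set B₁ := (g⁻¹ : SpecialLinearGroup (Fin 3) F).1ᵀ * B * (g⁻¹ : SpecialLinearGroup (Fin 3) F).1 with hB₁
    have e : g.1ᵀ * B₁ * g.1 = B := by
      rw [hB₁, ← Matrix.mul_assoc, ← Matrix.mul_assoc, ← transpose_mul, ← sl_mul_val, inv_mul_cancel, sl_one_val,
        transpose_one, Matrix.one_mul, Matrix.mul_assoc, ← sl_mul_val, inv_mul_cancel, sl_one_val, Matrix.mul_one]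
    have hne : B ≠ B₁ := fun e1 => hB0 (hgB B hBa (by rw [← e1] at e; exact e))
    refine trace_mul_eq_zero (E' := eZ le_rfl ψ ρ B₁) (by rw [eZ_mul le_rfl ψ ρ hψ, if_pos rfl]) ?_
      (by rw [eZ_mul le_rfl ψ ρ hψ, if_neg hne])
    conv_lhs => rw [← e]
    exact le_mul_eZ le_rfl ψ ρ g B₁
  have hfix' : ∀ B, IsAlt B → (c⁻¹ : SpecialLinearGroup (Fin 3) F).1ᵀ * B * (c⁻¹).1 = B → B = 0 := by
    intro B hB e
    refine hfix B hB ?_
    conv_lhs => rw [← e]
    rw [← Matrix.mul_assoc, ← Matrix.mul_assoc, ← transpose_mul, ← sl_mul_val, inv_mul_cancel, sl_one_val,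
      transpose_one, Matrix.one_mul, Matrix.mul_assoc, ← sl_mul_val, inv_mul_cancel, sl_one_val, Matrix.mul_one]
  have h16 : A c⁻¹ = A c := by
    rw [← htot c⁻¹ hfix', ← htot c hfix, ← hr, Representation.char_conj]
  have hsq : ∀ n : ℕ, A (c ^ (2 * n)) = A (c ^ n) := fun n => by
    rw [pow_mul, ← hk, conj_pow, hconj]
  have h6 : c⁻¹ = c ^ 6 := inv_eq_of_mul_eq_one_right (by rw [← pow_succ', h7])
  have hmod : ∀ n : ℕ, A (c ^ n) = A (c ^ (n % 7)) := fun n => by rw [pow_eq_pow_mod n h7]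
  have a2 : A (c ^ 2) = A c := by simpa using hsq 1
  have a4 : A (c ^ 4) = A c := (hsq 2).trans a2
  have a6 : A (c ^ 6) = A c := by rw [← h6]; exact h16
  have a5 : A (c ^ 5) = A c := by rw [show A (c ^ 5) = A (c ^ (2 * 6)) from (hmod 12).symm, hsq]; exact a6
  have a3 : A (c ^ 3) = A c := by rw [show A (c ^ 3) = A (c ^ (2 * 5)) from (hmod 10).symm, hsq]; exact a5
  have hint : IsIntegral ℤ (A c) := by
    rw [← htot c hfix]
    exact CfsgLib.Char.char_pow_eq_sum_isIntegral ρ _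
  have hcE := seven_count π E hEE hc h7 hint (fun i hi => by
    fin_cases i
    · exact absurd rfl hi
    · simp [hA]
    · exact a2
    · exact a3
    · exact a4
    · exact a5
    · exact a6) (by omega)
  obtain ⟨g', hg'⟩ := h
  set σ := onRange π E hc with hσ
  have hcker : c ∈ σ.ker := by
    refine MonoidHom.mem_ker.2 (LinearMap.ext fun y => Subtype.ext ?_)
    obtain ⟨z, hz⟩ := y.2
    show π c y.1 = y.1
    rw [← hz, ← Module.End.mul_apply, hcE]
  have hmem : c * g * c * g⁻¹ ∈ σ.ker := by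
    rw [mul_assoc c g c, mul_assoc c]
    exact mul_mem hcker ((inferInstance : σ.ker.Normal).conj_mem c hcker g)
  have htop := eq_top_of_transv le_rfl σ.ker hg hmem
  exact hg' (mul_eq_of_onRange π E hc (MonoidHom.mem_ker.1 (htop ▸ Subgroup.mem_top g') : σ g' = 1))

end CfsgLib.Classical.WeilOmega
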