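/-
The exceptional degrees of the ten-dimensional group over two elements.
-/
import Cfsg.Agent.Lib.Classical.WeilOmega.TwoThree
import Cfsg.Agent.Lib.Classical.QuadOrder
import Cfsg.Agent.Lib.Orth.Facts
import Cfsg.Agent.Lib.Char.Orthogonality
import Cfsg.Agent.Lib.Char.Integrality

set_option autoImplicit false

namespace CfsgLib.Classical.WeilOmega

open Matrix Module CfsgLib.LinDeg CfsgLib.Classical.WeilSU CfsgLib.Perm.Trans CfsgLib.Perm.Trans.Quad

section Embedding

variable {F : Type*} [Field F] {a b : F}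

/-- The positions of the small space. -/
def emb24 : Idx 2 2 → Idx 4 2 :=
  Sum.map (Sum.map (fun i => ⟨i.1 + 2, by omega⟩) fun i => ⟨i.1 + 2, by omega⟩) id

/-- The inclusion matrix. -/
def incl (F : Type*) [Field F] : Matrix (Idx 4 2) (Idx 2 2) F := (1 : Matrix (Idx 4 2) (Idx 4 2) F).submatrix id emb24

theorem inclT_incl : (incl F)ᵀ * incl F = 1 := by
  ext i j
  rcases i with (i | i) | i <;> rcases j with (j | j) | j <;> fin_cases i <;> fin_cases j <;>
    simp [incl, emb24, Matrix.mul_apply, Fintype.sum_sum_type, Fin.sum_univ_four, Fin.sum_univ_two, Matrix.one_apply]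

theorem inclT_mulVec (v : Idx 4 2 → F) : (incl F)ᵀ *ᵥ v = fun j => v (emb24 j) := by
  funext j
  simp [incl, mulVec, dotProduct, transpose_apply, Matrix.one_apply]

/-- The extension of a matrix by the identity. -/
def extend24 (g : Matrix (Idx 2 2) (Idx 2 2) F) : Matrix (Idx 4 2) (Idx 4 2) F :=
  incl F * g * (incl F)ᵀ + (1 - incl F * (incl F)ᵀ)

theorem extend24_mul (g h : Matrix (Idx 2 2) (Idx 2 2) F) : extend24 g * extend24 h = extend24 (g * h) := by
  have e := inclT_incl (F := F)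
  simp only [extend24, Matrix.add_mul, Matrix.mul_add, Matrix.mul_sub, Matrix.sub_mul, Matrix.one_mul,
    Matrix.mul_one, Matrix.mul_assoc]
  simp only [← Matrix.mul_assoc (incl F)ᵀ (incl F), e, Matrix.one_mul]
  abel

theorem extend24_one : extend24 (1 : Matrix (Idx 2 2) (Idx 2 2) F) = 1 := by
  rw [extend24, Matrix.mul_one]; abel

theorem inclT_extend24 (g : Matrix (Idx 2 2) (Idx 2 2) F) : (incl F)ᵀ * extend24 g = g * (incl F)ᵀ := by
  simp only [extend24, Matrix.mul_add, Matrix.mul_sub, ← Matrix.mul_assoc, inclT_incl, Matrix.one_mul, Matrix.mul_one]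
  abel

theorem qf_decomp (v : Idx 4 2 → F) :
    Cfsg.quadFormMinus 4 F a b v = v (.inl (.inl 0)) * v (.inl (.inr 0)) + v (.inl (.inl 1)) * v (.inl (.inr 1)) +
      Cfsg.quadFormMinus 2 F a b ((incl F)ᵀ *ᵥ v) := by
  obtain ⟨x, y, z, rfl⟩ := exists_vec3 v
  rw [qf_vec3, inclT_mulVec,
    show (fun j => vec3 x y z (emb24 j)) = vec3 ![x 2, x 3] ![y 2, y 3] z by
      funext j
      rcases j with (j | j) | j <;> fin_cases j <;> simp [vec3, emb24],
    qf_vec3]
  simp [dotProduct, Fin.sum_univ_four, Fin.sum_univ_two, vec3]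
  ring

theorem extend24_keep (g : Matrix (Idx 2 2) (Idx 2 2) F) (v : Idx 4 2 → F) {p : Idx 4 2}
    (hp : ∀ j, emb24 j ≠ p) : (extend24 g *ᵥ v) p = v p := by
  have h0 : ∀ w : Idx 2 2 → F, (incl F *ᵥ w) p = 0 := fun w => by
    simp [incl, mulVec, dotProduct, Matrix.one_apply, fun j => (hp j).symm]
  rw [extend24, add_mulVec, sub_mulVec, one_mulVec, Pi.add_apply, Pi.sub_apply, ← mulVec_mulVec, ← mulVec_mulVec,
    ← mulVec_mulVec, h0, h0]
  simp

theorem extend24_form (g : Cfsg.isometryGroup F (Cfsg.quadFormMinus 2 F a b)) (v : Idx 4 2 → F) :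
    Cfsg.quadFormMinus 4 F a b (extend24 g.1.1 *ᵥ v) = Cfsg.quadFormMinus 4 F a b v := by
  rw [qf_decomp, qf_decomp, mulVec_mulVec, inclT_extend24, ← mulVec_mulVec, mem_iso.1 g.2,
    extend24_keep, extend24_keep, extend24_keep, extend24_keep] <;>
    (intro j; rcases j with (j | j) | j <;> fin_cases j <;> simp [emb24])

/-- The embedding of the isometry groups. -/
def embIso : Cfsg.isometryGroup F (Cfsg.quadFormMinus 2 F a b) →*
    Cfsg.isometryGroup F (Cfsg.quadFormMinus 4 F a b) where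
  toFun g := ⟨⟨extend24 g.1.1, extend24 (g⁻¹).1.1,
      by rw [extend24_mul]; rw [show g.1.1 * (g⁻¹).1.1 = 1 from Units.mul_inv g.1, extend24_one],
      by rw [extend24_mul]; rw [show (g⁻¹).1.1 * g.1.1 = 1 from Units.inv_mul g.1, extend24_one]⟩,
    fun u _ => extend24_form g u⟩
  map_one' := iso_ext (by show extend24 _ = _; exact extend24_one)
  map_mul' g h := iso_ext (by show extend24 _ = extend24 _ * extend24 _; rw [extend24_mul]; rfl)

theorem embIso_mem {g : Cfsg.isometryGroup F (Cfsg.quadFormMinus 2 F a b)}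
    (hg : g ∈ Cfsg.Omega F (Cfsg.quadFormMinus 2 F a b)) :
    embIso g ∈ Cfsg.Omega F (Cfsg.quadFormMinus 4 F a b) := by
  have h := Subgroup.map_commutator ⊤ ⊤ (embIso (F := F) (a := a) (b := b))
  have h1 : embIso g ∈ (Cfsg.Omega F (Cfsg.quadFormMinus 2 F a b)).map embIso := Subgroup.mem_map_of_mem _ hg
  change embIso g ∈ (⁅(⊤ : Subgroup (Cfsg.isometryGroup F (Cfsg.quadFormMinus 2 F a b))), ⊤⁆ :
    Subgroup (Cfsg.isometryGroup F (Cfsg.quadFormMinus 2 F a b))).map embIso at h1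
  rw [h] at h1
  exact Subgroup.commutator_mono le_top le_top h1

end Embedding

section Klein

variable {F : Type*} [Field F]

/-- The Pfaffian condition. -/
def pf (B : Matrix (Fin 4) (Fin 4) F) : F := B 0 1 * B 2 3 - B 0 2 * B 1 3 + B 0 3 * B 1 2

/-- Alternating matrices from their entries above the diagonal. -/
def alt6 (v : Fin 6 → F) : Matrix (Fin 4) (Fin 4) F :=
  !![0, v 0, v 1, v 2; -v 0, 0, v 3, v 4; -v 1, -v 3, 0, v 5; -v 2, -v 4, -v 5, 0]

end Klein

variable {F : Type*} [Field F] [Fintype F] (hF : Fintype.card F = 2)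
include hF

theorem card_omega_two {k : ℕ} {a b : F}
    (hab : ∀ z₁ z₂ : F, z₁ ^ 2 + a * z₁ * z₂ + b * z₂ ^ 2 = 0 → z₁ = 0 ∧ z₂ = 0) (hk : 2 ≤ k) :
    Nat.card (Om F k a b) = 2 ^ ((k + 1) * k) * (2 ^ (k + 1) + 1) *
      ∏ i ∈ Finset.range k, (2 ^ (2 * (i + 1)) - 1) := by
  have h := CfsgLib.Orth.omega_index_two (qnd (m := k) hab) (by simp <;> omega) (Or.inr (by simp <;> omega)) (two_zero hF)
  have h2 := Subgroup.card_mul_index (Cfsg.Omega F (Cfsg.quadFormMinus k F a b))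
  rw [h, CfsgLib.Classical.card_iso_minus hab k, hF] at h2
  linarith



variable {a b : F} (hab : ∀ z₁ z₂ : F, z₁ ^ 2 + a * z₁ * z₂ + b * z₂ ^ 2 = 0 → z₁ = 0 ∧ z₂ = 0)
include hab

/-- The centralizer of a long root element. -/
theorem centralizer_dvd :
    77760 ∣ Nat.card (Subgroup.centralizer
      ({el a b (by norm_num : 3 ≤ 4) 0 (single (0 : Fin 4) 1 (1 : F))} : Set (Om F 4 a b))) := by
  classical
  set hm : 3 ≤ 4 := by norm_num
  set t := el a b hm 0 (single (0 : Fin 4) 1 (1 : F)) with ht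
  set C := Subgroup.centralizer ({t} : Set (Om F 4 a b)) with hC
  have h2 := two_zero hF
  let φ : Om F 2 a b →* Om F 4 a b :=
    ((embIso (F := F) (a := a) (b := b)).comp (Cfsg.Omega F (Cfsg.quadFormMinus 2 F a b)).subtype).codRestrict _
      fun g => embIso_mem g.2
  obtain ⟨ψ₀, -⟩ := exists_cast hF
  let s₀ : SpecialLinearGroup (Fin 4) (ZMod 2) := ⟨!![0, 1, 0, 0; 1, 1, 0, 0; 0, 0, 1, 0; 0, 0, 0, 1], by decide⟩
  let s₁ : SpecialLinearGroup (Fin 4) F := SpecialLinearGroup.map ψ₀ s₀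
  have hs3 : s₁ ^ 3 = 1 := by
    rw [← map_pow, show s₀ ^ 3 = 1 from Subtype.ext (show s₀.1 ^ 3 = 1 by decide), map_one]
  have hs1 : s₁.1 = !![0, 1, 0, 0; 1, 1, 0, 0; 0, 0, 1, 0; 0, 0, 0, 1] := by
    show s₀.1.map ψ₀ = _
    ext i j; fin_cases i <;> fin_cases j <;> simp [s₀]
  have hsinv : ((SpecialLinearGroup.toGL s₁)⁻¹).1 = !![1, 1, 0, 0; 1, 0, 0, 0; 0, 0, 1, 0; 0, 0, 0, 1] := by
    rw [inv_eq_of_mul_eq_one_right (b := SpecialLinearGroup.toGL (s₁ ^ 2)) (by
      rw [← map_mul, ← pow_succ', hs3, map_one])]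
    show (s₁ ^ 2 : SpecialLinearGroup (Fin 4) F).1 = _
    rw [← map_pow]
    show (s₀.1 ^ 2).map ψ₀ = _
    rw [show s₀.1 ^ 2 = !![1, 1, 0, 0; 1, 0, 0, 0; 0, 0, 1, 0; 0, 0, 0, 1] by decide]
    ext i j; fin_cases i <;> fin_cases j <;> simp
  set s := le a b hm s₁ with hs
  -- both fix the inclusion
  have hfix : ∀ x : Om F 4 a b, x = t ∨ x = s →
      x.1.1.1 * incl F = incl F ∧ (incl F)ᵀ * x.1.1.1 = (incl F)ᵀ := by
    rintro x (rfl | rfl)
    · show elMat a b 0 _ * incl F = incl F ∧ (incl F)ᵀ * elMat a b 0 _ = _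
      constructor <;> ext i j <;> rcases i with (i | i) | i <;> rcases j with (j | j) | j <;>
        fin_cases i <;> fin_cases j <;>
        simp [incl, emb24, elMat, blk3, aBlk, Matrix.mul_apply, Fintype.sum_sum_type, Fin.sum_univ_four,
          Fin.sum_univ_two, Matrix.one_apply, single_apply]
    · show blk3 s₁.1 0 0 0 ((SpecialLinearGroup.toGL s₁)⁻¹).1ᵀ 0 0 0 1 * incl F = incl F ∧
        (incl F)ᵀ * blk3 s₁.1 0 0 0 ((SpecialLinearGroup.toGL s₁)⁻¹).1ᵀ 0 0 0 1 = _
      rw [hs1, hsinv]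
      constructor <;> ext i j <;> rcases i with (i | i) | i <;> rcases j with (j | j) | j <;>
        fin_cases i <;> fin_cases j <;>
        simp [incl, emb24, blk3, Matrix.mul_apply, Fintype.sum_sum_type, Fin.sum_univ_four,
          Fin.sum_univ_two, Matrix.one_apply]
  have hcomm : ∀ x : Om F 4 a b, x = t ∨ x = s → ∀ g, x * φ g = φ g * x := by
    intro x hx g
    obtain ⟨e1, e2⟩ := hfix x hx
    refine Subtype.ext (iso_ext ?_)
    show x.1.1.1 * extend24 g.1.1.1 = extend24 g.1.1.1 * x.1.1.1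
    rw [extend24, Matrix.mul_add, Matrix.add_mul, Matrix.mul_sub, Matrix.sub_mul, Matrix.mul_one, Matrix.one_mul,
      ← Matrix.mul_assoc, ← Matrix.mul_assoc, ← Matrix.mul_assoc, e1, Matrix.mul_assoc (incl F * _) _ x.1.1.1,
      Matrix.mul_assoc (incl F) _ x.1.1.1, e2]
  have hst : s * t = t * s := by
    rw [hs, ht, le_mul_el, Matrix.zero_mul]
    have hel : el a b hm 0 (s₁.1 * single (0 : Fin 4) 1 (1 : F) * s₁.1ᵀ) =
        el a b hm 0 (single (0 : Fin 4) 1 (1 : F)) := by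
      refine el_congr a b hm ?_
      rw [hs1]
      ext i j
      fin_cases i <;> fin_cases j <;>
        simp [Matrix.mul_apply, Matrix.vecMul, dotProduct, Fin.sum_univ_four, single_apply] <;>
        first | linear_combination h2 | linear_combination -h2
    rw [hel]
  have hsord : orderOf s = 3 := by
    refine orderOf_eq_prime (by rw [hs, ← map_pow, hs3, map_one]) fun e => ?_
    have h := congrFun (congrFun (congrArg (fun v : Om F 4 a b => v.1.1.1) e) (.inl (.inl 0))) (.inl (.inl 1))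
    have h' : blk3 s₁.1 0 0 0 ((SpecialLinearGroup.toGL s₁)⁻¹).1ᵀ 0 0 0 1 (.inl (.inl (0 : Fin 4))) (.inl (.inl 1)) =
        (1 : Matrix (Idx 4 2) (Idx 4 2) F) (.inl (.inl 0)) (.inl (.inl 1)) := h
    simp [blk3, hs1] at h'
  have hc : ∀ (x : Subgroup.zpowers s) (g : Om F 2 a b), Commute (x : Om F 4 a b) (φ g) := by
    rintro ⟨x, hx⟩ g
    obtain ⟨n, rfl⟩ := Subgroup.mem_zpowers_iff.1 hx
    exact Commute.zpow_left (hcomm s (Or.inr rfl) g) n
  let Φ : Subgroup.zpowers s × Om F 2 a b →* Om F 4 a b :=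
    MonoidHom.noncommCoprod (Subgroup.zpowers s).subtype φ hc
  have hfixpow : ∀ n : ℕ, (incl F)ᵀ * (s ^ n).1.1.1 = (incl F)ᵀ := by
    intro n
    induction n with
    | zero => exact Matrix.mul_one _
    | succ n ih =>
      rw [pow_succ]
      show (incl F)ᵀ * ((s ^ n).1.1.1 * s.1.1.1) = _
      rw [← Matrix.mul_assoc, ih, (hfix s (Or.inr rfl)).2]
  have hinj : Function.Injective Φ := by
    rw [injective_iff_map_eq_one]
    rintro ⟨⟨x, hx⟩, g⟩ h
    change x * φ g = 1 at h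
    obtain ⟨n, hn⟩ := mem_powers_iff_mem_zpowers.2 hx
    have hn' : s ^ n = x := hn
    have h1 : x.1.1.1 * extend24 g.1.1.1 = 1 := congrArg (fun v : Om F 4 a b => v.1.1.1) h
    have h2 := congrArg (fun X => (incl F)ᵀ * X * incl F) h1
    simp only [Matrix.mul_one, inclT_incl] at h2
    rw [← Matrix.mul_assoc, ← hn', hfixpow, inclT_extend24, Matrix.mul_assoc, inclT_incl, Matrix.mul_one] at h2
    have hg : g = 1 := Subtype.ext (iso_ext h2)
    refine Prod.ext (Subtype.ext ?_) hg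
    rwa [hg, map_one, mul_one] at h
  have hrange : Φ.range ≤ C := by
    rintro _ ⟨⟨⟨x, hx⟩, g⟩, rfl⟩
    rw [hC, Subgroup.mem_centralizer_singleton_iff]
    show (x * φ g) * t = t * (x * φ g)
    obtain ⟨n, rfl⟩ := Subgroup.mem_zpowers_iff.1 hx
    have h1 : Commute (s ^ n) t := Commute.zpow_left hst n
    exact (h1.mul_left (hcomm t (Or.inl rfl) g).symm).eq
  have hdvd := Subgroup.card_dvd_of_le hrange
  rw [Nat.card_congr (MonoidHom.ofInjective hinj).symm.toEquiv, Nat.card_prod, Nat.card_zpowers, hsord,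
    card_omega_two hF hab le_rfl] at hdvd
  simpa [Finset.prod_range_succ] using hdvd

/-- The nonzero decomposable alternating matrices. -/
theorem exists_klein [DecidableEq F] : ∃ S : Finset (Matrix (Fin 4) (Fin 4) F), S.card = 35 ∧
    (∀ B, IsAlt B → B ≠ 0 → pf B = 0 → B ∈ S) ∧ 0 ∉ S ∧ (S.filter fun B => B 0 1 ≠ 0).card = 16 := by
  classical
  obtain ⟨φ, -⟩ := exists_cast hF
  have hφ : Function.Injective φ := φ.injective
  let f : (Fin 6 → ZMod 2) → Matrix (Fin 4) (Fin 4) F := fun v => alt6 fun i => φ (v i)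
  have hf : Function.Injective f := by
    intro v w e
    funext i
    apply hφ
    have := fun p q => congrFun (congrFun e p) q
    fin_cases i
    · simpa [f, alt6] using this 0 1
    · simpa [f, alt6] using this 0 2
    · simpa [f, alt6] using this 0 3
    · simpa [f, alt6] using this 1 2
    · simpa [f, alt6] using this 1 3
    · simpa [f, alt6] using this 2 3
  let S₀ : Finset (Fin 6 → ZMod 2) :=
    Finset.univ.filter fun v => v ≠ 0 ∧ v 0 * v 5 - v 1 * v 4 + v 2 * v 3 = 0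
  refine ⟨S₀.image f, ?_, fun B hB h0 hp => ?_, ?_, ?_⟩
  · rw [Finset.card_image_of_injective _ hf]
    decide
  · have hlift : ∀ x : F, ∃ y : ZMod 2, φ y = x := fun x => by
      rcases zero_or_one hF x with rfl | rfl
      · exact ⟨0, map_zero φ⟩
      · exact ⟨1, map_one φ⟩
    choose l hl using hlift
    set v : Fin 6 → ZMod 2 := ![l (B 0 1), l (B 0 2), l (B 0 3), l (B 1 2), l (B 1 3), l (B 2 3)] with hv
    have hfv : f v = B := by
      ext i j
      fin_cases i <;> fin_cases j <;> simp [f, alt6, hv, hl] <;>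
        first
          | exact (hB.2 _).symm
          | (rw [hB.1 _ _, neg_neg])
          | exact neg_eq_iff_eq_neg.2 (hB.1 _ _)
          | rw [← neg_inj, neg_neg, hB.1 _ _]
          | exact neg_neg _
          | (rw [hB.1 _ _, neg_neg])
    refine Finset.mem_image.2 ⟨v, Finset.mem_filter.2 ⟨Finset.mem_univ _, fun e => h0 ?_, hφ ?_⟩, hfv⟩
    · rw [← hfv, e]
      ext i j
      fin_cases i <;> fin_cases j <;> simp [f, alt6]
    · simpa [hv, hl, pf] using hp
  · simp only [Finset.mem_image, Finset.mem_filter, not_exists, not_and, S₀]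
    intro v ⟨_, hv0, _⟩ e
    exact hv0 (hf (e.trans (by ext i j; fin_cases i <;> fin_cases j <;> simp [f, alt6])))
  · rw [Finset.filter_image, Finset.card_image_of_injective _ hf,
      show (S₀.filter fun v => f v 0 1 ≠ 0) = S₀.filter fun v => v 0 ≠ 0 from Finset.filter_congr fun v _ => by
        simp [f, alt6, map_eq_zero_iff φ hφ]]
    decide

/-- No irreducible representation has degree between 147 and 153. -/
theorem not_small_four {k : ℕ} (ρ : Representation ℂ (Om F 4 a b) (Fin k → ℂ)) [ρ.IsIrreducible]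
    {g₀ : Om F 4 a b} (hg₀ : ρ g₀ ≠ 1) (h1 : 147 ≤ k) (h2 : k ≤ 153) : False := by
  classical
  obtain ⟨ψ, hψ⟩ := exists_primitiveChar F ℂ (by
    rw [ringChar.eq_zero]
    exact fun h => CharP.ringChar_ne_zero_of_finite F h.symm)
  have hm : 3 ≤ 4 := by norm_num
  have hk : finrank ℂ (Fin k → ℂ) = k := Module.finrank_fin_fun ℂ
  have hwedge := (dichotomy hm ψ ρ hψ hab).resolve_left (by rw [hk, hF]; norm_num; omega)
  set T : Finset (Matrix (Fin 4) (Fin 4) F) := Finset.univ.filter fun B => B ≠ 0 ∧ eZ hm ψ ρ B ≠ 0 with hT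
  have hTm : ∀ {B}, B ∈ T ↔ B ≠ 0 ∧ eZ hm ψ ρ B ≠ 0 := fun {B} => by simp [hT]
  obtain ⟨S, hS35, hSmem, hS0, hS16⟩ := exists_klein hF hab
  have hTS : T ⊆ S := fun B hB => by
    obtain ⟨u, v, rfl⟩ := hwedge B (hTm.1 hB).1 (hTm.1 hB).2
    refine hSmem _ (isAlt_of_eZ hm ψ ρ hψ (hTm.1 hB).2) (hTm.1 hB).1 ?_
    simp only [pf, wedge_apply]
    ring
  obtain ⟨B₀, hB₀⟩ : ∃ B, B ∈ T := by
    by_contra hemp
    push Not at hemp
    apply hg₀
    have hz : ∀ B, B ≠ 0 → eZ hm ψ ρ B = 0 := fun B hB => by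
      by_contra hE
      exact hemp B (hTm.2 ⟨hB, hE⟩)
    have h1 : eZ hm ψ ρ 0 = 1 := by
      rw [← sum_eZ hm ψ ρ hψ, Finset.sum_eq_single 0 (fun B _ hB => hz B hB) (by simp)]
    refine trivial_of_el hab hm ρ (i₀ := ⟨0, by omega⟩) (i₁ := ⟨1, by omega⟩) (by simp) ?_ g₀
    rw [← mul_one (ρ _), ← h1, el_zero_mul_eZ, pr_zero, AddChar.map_zero_eq_one, one_smul]
  obtain ⟨u₀, v₀, e₀⟩ := hwedge B₀ (hTm.1 hB₀).1 (hTm.1 hB₀).2
  have hTc : ∀ g : SpecialLinearGroup (Fin 4) F, ∀ B ∈ T, g.1ᵀ * B * g.1 ∈ T := fun g B hB => by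
    refine hTm.2 ⟨fun e => (hTm.1 hB).1 ?_, eZ_congr_ne hm ψ ρ g (hTm.1 hB).2⟩
    have h1 := congrArg (fun X => (g⁻¹ : SpecialLinearGroup (Fin 4) F).1ᵀ * X *
      (g⁻¹ : SpecialLinearGroup (Fin 4) F).1) e
    simp only [Matrix.mul_zero, Matrix.zero_mul] at h1
    rw [← h1, ← Matrix.mul_assoc, ← Matrix.mul_assoc, ← transpose_mul, ← sl_mul_val, mul_inv_cancel, sl_one_val,
      transpose_one, Matrix.one_mul, Matrix.mul_assoc, ← sl_mul_val, mul_inv_cancel, sl_one_val, Matrix.mul_one]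
  have hcard := card_rank_two hm T hTc (e₀ ▸ hB₀) (e₀ ▸ (hTm.1 hB₀).1)
  rw [hF] at hcard
  norm_num at hcard
  have hTeq : T = S := Finset.eq_of_subset_of_card_le hTS (by omega)
  set r := finrank ℂ (LinearMap.range (eZ hm ψ ρ B₀)) with hr
  have hr4 : 4 ≤ r := by
    have h := rank_eZ_ge hm ψ ρ hψ hab (hTm.1 hB₀).1 (hTm.1 hB₀).2
    rw [hF] at h
    exact h
  have hconst : ∀ B ∈ S, finrank ℂ (LinearMap.range (eZ hm ψ ρ B)) = r := fun B hB => by
    rw [← hTeq] at hB
    obtain ⟨u, v, e⟩ := hwedge B (hTm.1 hB).1 (hTm.1 hB).2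
    obtain ⟨g, hg⟩ := wedge_orbit hm ψ hψ hab (u := u₀) (v := v₀) (u' := u) (v' := v) (e₀ ▸ (hTm.1 hB₀).1)
      (e ▸ (hTm.1 hB).1)
    rw [e, ← hg, rank_eZ_congr hm ψ ρ, ← e₀]
  have hzero : ∀ B, B ∉ insert 0 S → eZ hm ψ ρ B = 0 := fun B hB => by
    by_contra hne
    rw [Finset.mem_insert, not_or, ← hTeq] at hB
    exact hB.2 (hTm.2 ⟨hB.1, hne⟩)
  have hdim : k = finrank ℂ (LinearMap.range (eZ hm ψ ρ 0)) + 35 * r := by
    have h := finrank_eq_sum_range (eZ hm ψ ρ) (eZ_mul hm ψ ρ hψ) (sum_eZ hm ψ ρ hψ)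
    rw [hk, ← Finset.sum_subset (Finset.subset_univ (insert 0 S)) (fun B _ hB => by
      rw [hzero B hB, LinearMap.range_zero, finrank_bot]), Finset.sum_insert hS0, Finset.sum_congr rfl hconst,
      Finset.sum_const, hS35, smul_eq_mul] at h
    exact h
  have hre : r = 4 := by omega
  set x := finrank ℂ (LinearMap.range (eZ hm ψ ρ 0))
  -- the value at a long root element
  set M : Matrix (Fin 4) (Fin 4) F := single 0 1 1 with hM
  have htr : ∀ B, LinearMap.trace ℂ (Fin k → ℂ) (eZ hm ψ ρ B) = (finrank ℂ (LinearMap.range (eZ hm ψ ρ B)) : ℂ) :=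
    fun B => LinearMap.IsProj.trace ⟨fun z => ⟨z, rfl⟩, fun z hz => by
      obtain ⟨w, rfl⟩ := hz
      rw [← Module.End.mul_apply, eZ_mul hm ψ ρ hψ, if_pos rfl]⟩
  have hψ1 : ψ 1 = -1 := by
    have h := AddChar.map_add_eq_mul ψ 1 1
    rw [show (1 : F) + 1 = 0 by linear_combination two_zero hF, AddChar.map_zero_eq_one] at h
    refine (mul_self_eq_one_iff.1 h.symm).resolve_left fun e => hψ (one_ne_zero (α := F)) ?_
    ext z
    rcases zero_or_one hF z with rfl | rfl <;> simp [e]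
  have hval : ρ.character (el a b hm 0 M) = ((x + 12 : ℕ) : ℤ) := by
    show LinearMap.trace ℂ _ (ρ (el a b hm 0 M)) = _
    rw [← mul_one (ρ _), ← sum_eZ hm ψ ρ hψ, Finset.mul_sum, map_sum]
    simp only [el_zero_mul_eZ, map_smul, htr, hM, pr_single, one_mul, smul_eq_mul]
    rw [← Finset.sum_subset (Finset.subset_univ (insert 0 S)) (fun B _ hB => by
      rw [hzero B hB, LinearMap.range_zero, finrank_bot]; simp), Finset.sum_insert hS0,
      Finset.sum_congr rfl fun B hB => by rw [hconst B hB], ← Finset.sum_mul,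
      Finset.sum_congr rfl fun B (_ : B ∈ S) => show ψ (B 0 1) = if B 0 1 ≠ 0 then -1 else 1 by
        rcases zero_or_one hF (B 0 1) with e | e <;> simp [e, hψ1],
      Finset.sum_ite, Finset.sum_const, Finset.sum_const, hS16, hre]
    have hneg := Finset.card_filter_add_card_filter_not (s := S) (fun B => B 0 1 ≠ 0)
    rw [hS16, hS35] at hneg
    rw [show (S.filter fun B => ¬ B 0 1 ≠ 0).card = 19 by omega]
    simp [x]
    norm_num
  have hdvd := dvd_card_class_mul ρ _ _ hval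
  rw [CfsgLib.Char.card_isConj] at hdvd
  set C := Subgroup.centralizer ({el a b hm 0 M} : Set (Om F 4 a b))
  have hCd : 77760 ∣ Nat.card C := centralizer_dvd hF hab
  have hG : Nat.card (Om F 4 a b) = 25015379558400 := by
    rw [card_omega_two hF hab (by norm_num)]
    simp [Finset.prod_range_succ]
  have hmul := Subgroup.card_mul_index C
  rw [hG] at hmul
  obtain ⟨c, hc⟩ := hCd
  have hi : C.index ∣ 321699840 := ⟨c, by
    have : 77760 * (c * C.index) = 77760 * 321699840 := by rw [← mul_assoc, ← hc, hmul]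
    rw [mul_comm C.index]
    exact (Nat.eq_of_mul_eq_mul_left (by norm_num) this).symm⟩
  have hk' := CfsgLib.Char.finrank_dvd_card ρ
  rw [hk, hG] at hk'
  rw [show x = k - 140 by omega] at hdvd
  have hdvd' : k ∣ C.index * (k - 140 + 12) := by exact_mod_cast hdvd
  have hbig : k ∣ 321699840 * (k - 140 + 12) := hdvd'.trans (Nat.mul_dvd_mul_right hi _)
  rcases (by omega : k = 147 ∨ k = 148 ∨ k = 149 ∨ k = 150 ∨ k = 151 ∨ k = 152 ∨ k = 153) with
    e | e | e | e | e | e | e <;>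
    (rw [e] at hk' hbig; revert hk' hbig; norm_num)

end CfsgLib.Classical.WeilOmega
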