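/-
The minimal degrees of the orthogonal groups of minus type.
-/
import Cfsg.Agent.Lib.Classical.WeilOmega.TwoFour
import Cfsg.Agent.Lib.Classical.WeilSU.Final

set_option autoImplicit false

namespace CfsgLib.Classical.WeilOmega

open Matrix Module CfsgLib.LinDeg CfsgLib.Classical.WeilSU CfsgLib.Perm.Trans CfsgLib.Perm.Trans.Quad

theorem combine {q m x k : ℕ} (hq : 2 ≤ q) (hm : 3 ≤ m)
    (h : q ^ 2 * ((q ^ m - 1) * (q ^ (m - 1) - 1)) + (q ^ 2 - 1) * x ≤ (q ^ 2 - 1) * k)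
    (hx : q ^ m - q ≤ (q - 1) * x) : (q ^ (m + 1) + 1) * (q ^ m - q) ≤ (q ^ 2 - 1) * k := by
  rw [target_eq hq hm]
  refine le_trans (Nat.add_le_add_left ?_ _) h
  rw [show q ^ 2 - 1 = (q + 1) * (q - 1) by rw [← Nat.sq_sub_sq, one_pow], mul_assoc]
  exact Nat.mul_le_mul_left _ hx

variable {F : Type*} [Field F] [Fintype F] {a b : F}

theorem degree_bound (m : ℕ) (hm : 3 ≤ m) (hab : ∀ z₁ z₂ : F, z₁ ^ 2 + a * z₁ * z₂ + b * z₂ ^ 2 = 0 → z₁ = 0 ∧ z₂ = 0)
    (k : ℕ) (ρ : Representation ℂ (Om F m a b) (Fin k → ℂ)) (hρ : ρ.IsIrreducible) (hk : 2 ≤ k) :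
    (Fintype.card F ^ (m + 1) + 1) * (Fintype.card F ^ m - Fintype.card F) / (Fintype.card F ^ 2 - 1) ≤ k := by
  classical
  haveI := hρ
  obtain ⟨g₀, hg₀⟩ := exists_ne_one ρ hρ hk
  have hq : 2 ≤ Fintype.card F := Fintype.one_lt_card
  suffices h : (Fintype.card F ^ (m + 1) + 1) * (Fintype.card F ^ m - Fintype.card F) ≤
      (Fintype.card F ^ 2 - 1) * k ∨
      (Fintype.card F ^ (m + 1) + 1) * (Fintype.card F ^ m - Fintype.card F) / (Fintype.card F ^ 2 - 1) ≤ k by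
    rcases h with h | h
    · exact Nat.div_le_of_le_mul h
    · exact h
  obtain ⟨ψ, hψ⟩ := exists_primitiveChar F ℂ (by
    rw [ringChar.eq_zero]
    exact fun h => CharP.ringChar_ne_zero_of_finite F h.symm)
  rcases core hab hm ψ hψ ρ hg₀ with h | ⟨hmain, hmove⟩
  · rw [Module.finrank_fin_fun] at h
    exact .inl h
  rw [Module.finrank_fin_fun] at hmain
  set x := finrank ℂ (LinearMap.range (eZ hm ψ ρ 0))
  obtain ⟨hgen, hweak⟩ := levi_bounds hm ψ ρ hmove
  by_cases h34 : Fintype.card F = 3 ∧ m = 4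
  · obtain ⟨hq3, rfl⟩ := h34
    right
    have hd := CfsgLib.Char.finrank_dvd_card ρ
    rw [Module.finrank_fin_fun] at hd
    have hiso := (hd.trans (Subgroup.card_subgroup_dvd_card (Cfsg.Omega F (Cfsg.quadFormMinus 4 F a b))))
    rw [CfsgLib.Classical.card_iso_minus hab 4, hq3] at hiso
    rw [hq3] at hmain hweak ⊢
    norm_num at hmain hweak ⊢
    by_contra hlt
    push Not at hlt
    have hlo : 2366 ≤ k := by omega
    rcases (by omega : k = 2366 ∨ k = 2367 ∨ k = 2368 ∨ k = 2369 ∨ k = 2370 ∨ k = 2371 ∨ k = 2372 ∨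
        k = 2373 ∨ k = 2374 ∨ k = 2375 ∨ k = 2376 ∨ k = 2377 ∨ k = 2378) with
      e | e | e | e | e | e | e | e | e | e | e | e | e <;>
      (rw [e] at hiso; revert hiso; norm_num [Finset.prod_range_succ])
  by_cases h2 : Fintype.card F = 2 ∧ m ≤ 4
  · obtain ⟨hq2, hm4⟩ := h2
    rcases (by omega : m = 3 ∨ m = 4) with rfl | rfl
    · have h6 := six_le hq2 hab ψ hψ ρ hmove
      left
      rw [hq2] at hmain ⊢
      norm_num at hmain ⊢
      omega
    · left
      rw [hq2] at hmain hweak ⊢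
      norm_num at hmain hweak ⊢
      by_contra hlt
      push Not at hlt
      exact not_small_four hq2 hab ρ hg₀ (by omega) (by omega)
  exact .inl (combine hq hm hmain (hgen h34 h2))

end CfsgLib.Classical.WeilOmega
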